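/-
The Hessian group inside `PSL(3, F)`: generators, relations and small lemmas.
-/
import Mathlib.LinearAlgebra.Matrix.ProjectiveSpecialLinearGroup
import Mathlib.LinearAlgebra.Matrix.Trace
import Mathlib.Tactic
import Mathlib.Algebra.CharP.Algebra
import Mathlib.LinearAlgebra.Matrix.CharP
import Cfsg.Agent.Lib.InvolutionDiag

set_option autoImplicit false
set_option maxHeartbeats 800000
set_option linter.unusedSectionVars false

namespace CfsgLib.MaxSub.SLThree.Hess

open Matrix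

variable {F : Type*} [Field F]

local notation "SL" => Matrix.SpecialLinearGroup (Fin 3) F
local notation "Mn" => Matrix (Fin 3) (Fin 3) F
local notation "P3" => Matrix.ProjectiveSpecialLinearGroup (Fin 3) F

/-- The quotient map. -/
def mk : Matrix.SpecialLinearGroup (Fin 3) F →* Matrix.ProjectiveSpecialLinearGroup (Fin 3) F :=
  QuotientGroup.mk' (Subgroup.center (Matrix.SpecialLinearGroup (Fin 3) F))

theorem mk_surj : Function.Surjective (mk : SL →* P3) := QuotientGroup.mk'_surjective _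

theorem mk_eq_iff {A B : SL} : mk A = mk B ↔ ∃ c : F, c ^ 3 = 1 ∧ B.1 = c • A.1 := by
  rw [mk, QuotientGroup.mk'_eq_mk']
  constructor
  · rintro ⟨z, hz, rfl⟩
    obtain ⟨r, hr, he⟩ := Matrix.SpecialLinearGroup.mem_center_iff.1 hz
    refine ⟨r, by simpa using hr, ?_⟩
    show A.1 * z.1 = r • A.1
    rw [← he, Matrix.scalar_apply, ← Matrix.smul_one_eq_diagonal, Matrix.mul_smul, mul_one]
  · rintro ⟨c, hc, he⟩
    refine ⟨⟨c • 1, by rw [Matrix.det_smul, Matrix.det_one, mul_one, Fintype.card_fin, hc]⟩,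
      Matrix.SpecialLinearGroup.mem_center_iff.2 ⟨c, by simpa using hc,
        by rw [Matrix.scalar_apply, ← Matrix.smul_one_eq_diagonal]⟩, Subtype.ext ?_⟩
    show A.1 * (c • 1) = B.1
    rw [he, Matrix.mul_smul, mul_one]

theorem mk_eq_one {A : SL} : mk A = 1 ↔ ∃ c : F, c ^ 3 = 1 ∧ A.1 = c • (1 : Mn) := by
  rw [← map_one (mk : SL →* P3), eq_comm, mk_eq_iff]
  rfl

theorem comm_iff {A B : SL} :
    mk A * mk B = mk B * mk A ↔ ∃ c : F, c ^ 3 = 1 ∧ B.1 * A.1 = c • (A.1 * B.1) := by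
  rw [← map_mul, ← map_mul, mk_eq_iff]
  rfl

theorem eq_one_of_smul {A : Mn} (hA : A ≠ 0) {c : F} (h : c • A = A) : c = 1 := by
  by_contra hc
  refine hA ((smul_eq_zero.1 (show (c - 1) • A = 0 by rw [sub_smul, one_smul, h, sub_self])).resolve_left ?_)
  exact sub_ne_zero.2 hc

theorem val_ne_zero (A : SL) : A.1 ≠ 0 := fun h => by
  have := A.2
  rw [h, Matrix.det_zero] at this
  exact zero_ne_one this

theorem val_mul (A B : SL) : (A * B).1 = A.1 * B.1 := rfl

/-- An involution lifts to an involution. -/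
theorem exists_lift_invol {d : P3} (hd : d * d = 1) (hd1 : d ≠ 1) :
    ∃ D : SL, mk D = d ∧ D.1 * D.1 = 1 ∧ D.1 ≠ 1 := by
  obtain ⟨A, rfl⟩ := mk_surj d
  rw [← map_mul, mk_eq_one] at hd
  obtain ⟨c, hc, he⟩ := hd
  refine ⟨⟨c • A.1, by rw [Matrix.det_smul, Fintype.card_fin, hc, A.2, mul_one]⟩,
    (mk_eq_iff.2 ⟨c, hc, rfl⟩).symm, ?_, fun h => hd1 ?_⟩
  · show (c • A.1) * (c • A.1) = 1
    rw [Matrix.smul_mul, Matrix.mul_smul, ← val_mul, he, smul_smul, smul_smul,
      show c * c * c = c ^ 3 by ring, hc, one_smul]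
  · rw [mk_eq_one]
    refine ⟨c ^ 2, by rw [← pow_mul, mul_comm, pow_mul, hc, one_pow], ?_⟩
    replace h : c • A.1 = 1 := h
    rw [← h, smul_smul, show c ^ 2 * c = c ^ 3 by ring, hc, one_smul]

/-- Commuting with an involution can be lifted. -/
theorem invol_comm {D B : SL} (hD : D.1 * D.1 = 1) (h : mk D * mk B = mk B * mk D) :
    D.1 * B.1 = B.1 * D.1 := by
  obtain ⟨c, hc, he⟩ := comm_iff.1 h
  have h2 : (c * c) • B.1 = B.1 := by
    have := congrArg (fun M => M * D.1) he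
    simp only [Matrix.smul_mul, mul_assoc, hD, mul_one] at this
    calc (c * c) • B.1 = c • (D.1 * (c • (D.1 * B.1))) := by
          rw [Matrix.mul_smul, ← mul_assoc, hD, one_mul, smul_smul]
      _ = c • (D.1 * (B.1 * D.1)) := by rw [he]
      _ = B.1 := this.symm
  have h3 := eq_one_of_smul (val_ne_zero B) h2
  have hc1 : c = 1 := by linear_combination hc - c * h3
  rw [hc1, one_smul] at he
  exact he.symm

/-- An element of order prime to three commuting with another up to a scalar commutes with it. -/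
theorem coprime_comm {A B : SL} {r : ℕ} (hr : r % 3 ≠ 0) (hA : mk A ^ r = 1)
    (h : mk A * mk B = mk B * mk A) : A.1 * B.1 = B.1 * A.1 := by
  obtain ⟨c, hc, he⟩ := comm_iff.1 h
  have key : ∀ n : ℕ, B.1 * A.1 ^ n = c ^ n • (A.1 ^ n * B.1) := fun n => by
    induction n with
    | zero => simp
    | succ n ih =>
      rw [pow_succ, ← mul_assoc, ih, Matrix.smul_mul, mul_assoc (A.1 ^ n), he, Matrix.mul_smul,
        smul_smul, ← mul_assoc, pow_succ]
  rw [← map_pow, mk_eq_one] at hA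
  obtain ⟨s, hs, hAs⟩ := hA
  rw [Matrix.SpecialLinearGroup.coe_pow] at hAs
  have h1 := key r
  have hs0 : s ≠ 0 := fun h0 => by rw [h0] at hs; simp at hs
  rw [hAs, Matrix.mul_smul, mul_one, Matrix.smul_mul, one_mul, smul_comm] at h1
  have h2 : c ^ r = 1 := eq_one_of_smul (val_ne_zero B) (smul_right_injective Mn hs0 h1.symm)
  have h3 : c = 1 := by
    have hmod : c ^ r = c ^ (r % 3) := by
      conv_lhs => rw [← Nat.div_add_mod r 3, pow_add, pow_mul, hc, one_pow, one_mul]
    rw [h2] at hmod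
    have : r % 3 = 1 ∨ r % 3 = 2 := by omega
    rcases this with e | e <;> rw [e] at hmod
    · simpa using hmod.symm
    · linear_combination hc + c * hmod
  rw [h3, one_smul] at he
  exact he.symm

/-! ### The generators -/

/-- The diagonal generator. -/
def Xm (ω : F) : Matrix (Fin 3) (Fin 3) F := Matrix.diagonal ![1, ω, ω * ω]

/-- The cyclic generator. -/
def Ym : Matrix (Fin 3) (Fin 3) F := !![0, 0, 1; 1, 0, 0; 0, 1, 0]

/-- The Fourier matrix. -/
def Fm (ω : F) : Matrix (Fin 3) (Fin 3) F :=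
  (ω - ω * ω)⁻¹ • !![1, 1, 1; 1, ω, ω * ω; 1, ω * ω, ω]

/-- The twisted Fourier matrix. -/
def Gm (ω : F) : Matrix (Fin 3) (Fin 3) F :=
  (ω - ω * ω)⁻¹ • !![1, ω * ω, ω * ω; ω, ω, ω * ω; ω, ω * ω, ω]

/-- The central involution. -/
def Tm : Matrix (Fin 3) (Fin 3) F := !![-1, 0, 0; 0, 0, -1; 0, -1, 0]

/-- The parameters. -/
structure Root (ω : F) : Prop where
  eq : ω * ω + ω + 1 = 0
  three : (3 : F) ≠ 0

variable {ω : F}

theorem Root.cube (h : Root ω) : ω ^ 3 = 1 := by linear_combination (ω - 1) * h.eq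

theorem Root.ne_one (h : Root ω) : ω ≠ 1 := fun e => h.three (by have := h.eq; rw [e] at this; linear_combination this)

theorem Root.ne_zero (h : Root ω) : ω ≠ 0 := fun e => by have := h.eq; rw [e] at this; simp at this

theorem Root.sq_ne (h : Root ω) : ω * ω ≠ 1 := fun e => h.ne_one (by linear_combination h.cube - ω * e)

theorem Root.sub_ne (h : Root ω) : ω - ω * ω ≠ 0 := fun e =>
  h.ne_one (mul_left_cancel₀ h.ne_zero (by linear_combination -e))

theorem Root.cases (h : Root ω) {c : F} (hc : c ^ 3 = 1) : c = 1 ∨ c = ω ∨ c = ω * ω := by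
  have : (c - 1) * ((c - ω) * (c - ω * ω)) = 0 := by
    linear_combination hc + (c - c ^ 2) * h.eq + (c - 1) * h.cube
  rcases mul_eq_zero.1 this with e | e
  · exact Or.inl (sub_eq_zero.1 e)
  · rcases mul_eq_zero.1 e with e | e
    · exact Or.inr (Or.inl (sub_eq_zero.1 e))
    · exact Or.inr (Or.inr (sub_eq_zero.1 e))

theorem det_Xm (h : Root ω) : (Xm ω).det = 1 := by
  rw [Xm, Matrix.det_diagonal, Fin.prod_univ_three]
  show 1 * ω * (ω * ω) = 1
  linear_combination h.cube

theorem det_Ym : (Ym : Mn).det = 1 := by simp [Ym, Matrix.det_fin_three]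

theorem det_Tm : (Tm : Mn).det = 1 := by simp [Tm, Matrix.det_fin_three]

theorem det_Fm (h : Root ω) : (Fm ω).det = 1 := by
  obtain ⟨d, hd, hd'⟩ : ∃ d, d * (ω - ω * ω) = 1 ∧ (ω - ω * ω)⁻¹ = d :=
    ⟨_, inv_mul_cancel₀ h.sub_ne, rfl⟩
  rw [Fm, hd', Matrix.det_smul, Matrix.det_fin_three]
  simp
  linear_combination ((d * (ω - ω * ω)) ^ 2 + d * (ω - ω * ω) + 1) * hd +
    d ^ 3 * ω * (ω ^ 3 - 4 * ω ^ 2 + 5 * ω - 2) * h.eq

theorem det_Gm (h : Root ω) : (Gm ω).det = 1 := by
  obtain ⟨d, hd, hd'⟩ : ∃ d, d * (ω - ω * ω) = 1 ∧ (ω - ω * ω)⁻¹ = d :=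
    ⟨_, inv_mul_cancel₀ h.sub_ne, rfl⟩
  rw [Gm, hd', Matrix.det_smul, Matrix.det_fin_three]
  simp
  linear_combination ((d * (ω - ω * ω)) ^ 2 + d * (ω - ω * ω) + 1) * hd +
    d ^ 3 * ω ^ 2 * (ω - 1) ^ 2 * h.eq

/-! ### The relations -/

theorem Root.sq_sub (h : Root ω) : (ω - ω * ω) * (ω - ω * ω) = -3 := by
  linear_combination (ω ^ 2 - 3 * ω + 3) * h.eq

theorem Root.scale (h : Root ω) {M : Mn} (hM : M = (-3 : F) • Tm) :
    ((ω - ω * ω)⁻¹ * (ω - ω * ω)⁻¹) • M = Tm := by
  rw [hM, smul_smul, ← h.sq_sub, ← mul_inv, inv_mul_cancel₀ (mul_ne_zero h.sub_ne h.sub_ne), one_smul]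

theorem Fm_sq (h : Root ω) : Fm ω * Fm ω = Tm := by
  rw [Fm, Matrix.smul_mul, Matrix.mul_smul, smul_smul]
  refine h.scale ?_
  ext i j
  fin_cases i <;> fin_cases j <;>
    (simp only [Matrix.smul_apply, Matrix.mul_apply, Fin.sum_univ_three]; simp [Tm, Ym, Xm]) <;>
    (have := h.eq; grind)

theorem Gm_sq (h : Root ω) : Gm ω * Gm ω = Tm := by
  rw [Gm, Matrix.smul_mul, Matrix.mul_smul, smul_smul]
  refine h.scale ?_
  ext i j
  fin_cases i <;> fin_cases j <;>
    (simp only [Matrix.smul_apply, Matrix.mul_apply, Fin.sum_univ_three]; simp [Tm, Ym, Xm]) <;>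
    (have := h.eq; grind)

theorem Tm_sq : (Tm : Mn) * Tm = 1 := by
  ext i j
  fin_cases i <;> fin_cases j <;> simp [Tm, Matrix.mul_apply, Fin.sum_univ_three]

theorem Xm_cube (h : Root ω) : Xm ω * (Xm ω * Xm ω) = 1 := by
  rw [Xm, Matrix.diagonal_mul_diagonal, Matrix.diagonal_mul_diagonal, ← Matrix.diagonal_one]
  congr 1
  funext i
  fin_cases i <;> simp <;> (have := h.eq; grind)

theorem Ym_cube : (Ym : Mn) * (Ym * Ym) = 1 := by
  ext i j
  fin_cases i <;> fin_cases j <;> simp [Ym, Matrix.mul_apply, Fin.sum_univ_three]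

theorem XY (h : Root ω) : Xm ω * Ym = ω • (Ym * Xm ω) := by
  ext i j
  rw [Xm, Matrix.diagonal_mul, Matrix.smul_apply, Matrix.mul_diagonal]
  fin_cases i <;> fin_cases j <;>
    (simp only [Matrix.smul_apply, Matrix.mul_apply, Fin.sum_univ_three]; simp [Tm, Ym, Xm]) <;>
    (have := h.eq; grind)

theorem TX (h : Root ω) : Tm * Xm ω = Xm ω * Xm ω * Tm := by
  ext i j
  fin_cases i <;> fin_cases j <;>
    (simp only [Matrix.smul_apply, Matrix.mul_apply, Fin.sum_univ_three]; simp [Tm, Ym, Xm]) <;>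
    (have := h.eq; grind)

theorem TY : (Tm : Mn) * Ym = Ym * Ym * Tm := by
  ext i j
  fin_cases i <;> fin_cases j <;> simp [Tm, Ym, Matrix.mul_apply, Fin.sum_univ_three]

theorem FX (h : Root ω) : Fm ω * Xm ω = Ym * Ym * Fm ω := by
  rw [Fm, Matrix.smul_mul, Matrix.mul_smul]
  congr 1
  ext i j
  fin_cases i <;> fin_cases j <;>
    (simp only [Matrix.smul_apply, Matrix.mul_apply, Fin.sum_univ_three]; simp [Tm, Ym, Xm]) <;>
    (have := h.eq; grind)

theorem FY (h : Root ω) : Fm ω * Ym = Xm ω * Fm ω := by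
  rw [Fm, Matrix.smul_mul, Matrix.mul_smul]
  congr 1
  ext i j
  fin_cases i <;> fin_cases j <;>
    (simp only [Matrix.smul_apply, Matrix.mul_apply, Fin.sum_univ_three]; simp [Tm, Ym, Xm]) <;>
    (have := h.eq; grind)

theorem GX (h : Root ω) : Gm ω * Xm ω = ω • (Ym * Ym * Xm ω * Gm ω) := by
  rw [Gm, Matrix.smul_mul, Matrix.mul_smul, smul_comm]
  congr 1
  ext i j
  fin_cases i <;> fin_cases j <;>
    (simp only [Matrix.smul_apply, Matrix.mul_apply, Fin.sum_univ_three]; simp [Tm, Ym, Xm]) <;>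
    (have := h.eq; grind)

/-- Commuting with the diagonal generator. -/
theorem diag_of_commX (h : Root ω) {A : Mn} (hA : A * Xm ω = Xm ω * A) :
    A = Matrix.diagonal fun i => A i i := by
  ext i j
  have e := congrFun (congrFun hA i) j
  rw [Xm, Matrix.diagonal_mul, Matrix.mul_diagonal] at e
  by_cases hij : i = j
  · subst hij; simp
  rw [Matrix.diagonal_apply_ne _ hij]
  have h1 := h.ne_one
  have h2 := h.sq_ne
  have h3 : ω ≠ ω * ω := fun e => h.sub_ne (sub_eq_zero.2 e)
  have key : ((![1, ω, ω * ω] : Fin 3 → F) j - (![1, ω, ω * ω] : Fin 3 → F) i) * A i j = 0 := by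
    linear_combination e
  refine (mul_eq_zero.1 key).resolve_left (sub_ne_zero.2 ?_)
  fin_cases i <;> fin_cases j <;> first
    | exact absurd rfl hij
    | exact h1
    | exact h1.symm
    | exact h2
    | exact h2.symm
    | exact h3
    | exact h3.symm

theorem circ_of_commY {A : Mn} (hA : A * Ym = Ym * A) :
    A = !![A 0 0, A 0 1, A 0 2; A 0 2, A 0 0, A 0 1; A 0 1, A 0 2, A 0 0] := by
  have e : ∀ i j, (A * Ym : Mn) i j = (Ym * A : Mn) i j := fun i j => by rw [hA]
  have e00 := e 0 0; have e01 := e 0 1; have e02 := e 0 2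
  have e10 := e 1 0; have e11 := e 1 1; have e12 := e 1 2
  have e20 := e 2 0; have e21 := e 2 1; have e22 := e 2 2
  simp [Ym, Matrix.mul_apply, Fin.sum_univ_three] at e00 e01 e02 e10 e11 e12 e20 e21 e22
  ext i j
  fin_cases i <;> fin_cases j <;> simp <;> grind

theorem scalar_of_commXY (h : Root ω) {A : Mn} (hX : A * Xm ω = Xm ω * A) (hY : A * Ym = Ym * A) :
    A = (A 0 0) • 1 := by
  have hd := diag_of_commX h hX
  have hc := circ_of_commY hY
  have h01 : A 0 1 = 0 := by rw [hd]; simp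
  have h02 : A 0 2 = 0 := by rw [hd]; simp
  ext i j
  conv_lhs => rw [hc]
  fin_cases i <;> fin_cases j <;> simp [h01, h02]

/-- The centraliser of the two Fourier matrices. -/
theorem commFG (h : Root ω) {D : Mn} (hD : D * D = 1) (hd : D.det = 1) (h2 : (2 : F) ≠ 0)
    (hF : D * Fm ω = Fm ω * D) (hG : D * Gm ω = Gm ω * D) : D = 1 ∨ D = Tm := by
  have hT : D * Tm = Tm * D := by
    rw [← Fm_sq h, ← mul_assoc, hF, mul_assoc, hF, mul_assoc]
  have e : ∀ i j, (D * Tm : Mn) i j = (Tm * D : Mn) i j := fun i j => by rw [hT]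
  have t01 := e 0 1; have t10 := e 1 0; have t12 := e 1 2; have t11 := e 1 1
  simp [Tm, Matrix.mul_apply, Fin.sum_univ_three] at t01 t10 t12 t11
  rw [Fm, Matrix.smul_mul, Matrix.mul_smul] at hF
  rw [Gm, Matrix.smul_mul, Matrix.mul_smul] at hG
  have hF' := smul_right_injective Mn (inv_ne_zero h.sub_ne) hF
  have hG' := smul_right_injective Mn (inv_ne_zero h.sub_ne) hG
  have f00 := congrFun (congrFun hF' 0) 0
  have f01 := congrFun (congrFun hF' 0) 1
  have g00 := congrFun (congrFun hG' 0) 0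
  simp [Matrix.mul_apply, Fin.sum_univ_three] at f00 f01 g00
  have hb : D 0 1 = 0 := by
    have : (2 * ω * (1 - ω)) * D 0 1 = 0 := by
      linear_combination g00 - ω * ω * f00 - (ω - ω * ω) * (t01)
    exact (mul_eq_zero.1 this).resolve_left
      (mul_ne_zero (mul_ne_zero h2 h.ne_zero) (sub_ne_zero.2 h.ne_one.symm))
  have h02 : D 0 2 = 0 := by linear_combination hb + t01
  have h10 : D 1 0 = 0 := by grind
  have h20 : D 2 0 = 0 := by grind
  have h22 : D 2 2 = D 1 1 := by grind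
  have h21 : D 2 1 = D 1 2 := by grind
  have h00 : D 0 0 = D 1 1 + D 1 2 := by grind
  have q : ∀ i j, (D * D) i j = (1 : Mn) i j := fun i j => by rw [hD]
  have q11 := q 1 1
  have q12 := q 1 2
  simp [Matrix.mul_apply, Fin.sum_univ_three, h10, hb, h02, h20, h22, h21] at q11 q12
  rw [Matrix.det_fin_three, hb, h02, h10, h20, h22, h21, h00] at hd
  have hef : D 1 1 * D 1 2 = 0 := (mul_eq_zero.1 (show (2 : F) * (D 1 1 * D 1 2) = 0 by
    linear_combination q12)).resolve_left h2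
  rcases mul_eq_zero.1 hef with z | z
  · right
    have hf : D 1 2 = -1 := by
      have hf2 : D 1 2 * D 1 2 = 1 := by rw [z] at q11; linear_combination q11
      rw [z] at hd
      linear_combination -hd - D 1 2 * hf2
    rw [z] at h22 h00
    rw [hf] at h21 h00
    ext i j
    fin_cases i <;> fin_cases j <;> simp [Tm, hb, h02, h10, h20, h22, h21, h00, hf, z]
  · left
    have he : D 1 1 = 1 := by
      have he2 : D 1 1 * D 1 1 = 1 := by rw [z] at q11; linear_combination q11
      rw [z] at hd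
      linear_combination hd - D 1 1 * he2
    rw [he] at h22 h00
    rw [z] at h21 h00
    ext i j
    fin_cases i <;> fin_cases j <;> simp [hb, h02, h10, h20, h22, h21, h00, he, z]

end CfsgLib.MaxSub.SLThree.Hess
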