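/-
The Hessian configuration in `PSL(3, F)`.
-/
import Cfsg.Agent.Lib.MaxSub.SLThree.Hess.Std
import Mathlib.LinearAlgebra.Matrix.Charpoly.Coeff
import Mathlib.GroupTheory.OrderOfElement

set_option autoImplicit false
set_option maxHeartbeats 1600000
set_option linter.unusedSectionVars false

namespace CfsgLib.MaxSub.SLThree.Hess

open Matrix

variable {F : Type*} [Field F] {ω : F}

local notation "SL" => Matrix.SpecialLinearGroup (Fin 3) F
local notation "Mn" => Matrix (Fin 3) (Fin 3) F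
local notation "P3" => Matrix.ProjectiveSpecialLinearGroup (Fin 3) F

/-- Lift of the first generator. -/
def sX (h : Root ω) : Matrix.SpecialLinearGroup (Fin 3) F := ⟨Xm ω, det_Xm h⟩

/-- Lift of the second generator. -/
def sY : Matrix.SpecialLinearGroup (Fin 3) F := ⟨Ym, det_Ym⟩

/-- Lift of the Fourier element. -/
def sF (h : Root ω) : Matrix.SpecialLinearGroup (Fin 3) F := ⟨Fm ω, det_Fm h⟩

/-- Lift of the twisted Fourier element. -/
def sG (h : Root ω) : Matrix.SpecialLinearGroup (Fin 3) F := ⟨Gm ω, det_Gm h⟩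

/-- Lift of the involution. -/
def sT : Matrix.SpecialLinearGroup (Fin 3) F := ⟨Tm, det_Tm⟩

/-- The first generator. -/
def px (h : Root ω) : Matrix.ProjectiveSpecialLinearGroup (Fin 3) F := mk (sX h)

/-- The second generator. -/
def py : Matrix.ProjectiveSpecialLinearGroup (Fin 3) F := mk sY

/-- The Fourier element. -/
def pf (h : Root ω) : Matrix.ProjectiveSpecialLinearGroup (Fin 3) F := mk (sF h)

/-- The twisted Fourier element. -/
def pg (h : Root ω) : Matrix.ProjectiveSpecialLinearGroup (Fin 3) F := mk (sG h)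

/-- The involution. -/
def pt : Matrix.ProjectiveSpecialLinearGroup (Fin 3) F := mk sT

/-- The elementary abelian subgroup of order nine. -/
def E (h : Root ω) : Subgroup (Matrix.ProjectiveSpecialLinearGroup (Fin 3) F) :=
  Subgroup.centralizer {px h, py}

theorem mk_congr {A B : SL} (e : A.1 = B.1) : mk A = (mk B : P3) := by rw [Subtype.ext e]

theorem mk_smul {A B : SL} {c : F} (hc : c ^ 3 = 1) (e : A.1 = c • B.1) : mk A = (mk B : P3) :=
  (mk_eq_iff.2 ⟨c, hc, e⟩).symm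

section rels

variable (h : Root ω)

theorem px_cube : px h * (px h * px h) = (1 : P3) := by
  rw [px, ← map_mul, ← map_mul, ← map_one (mk : SL →* P3)]
  exact mk_congr (Xm_cube h)

theorem py_cube : py * (py * py) = (1 : P3) := by
  rw [py, ← map_mul, ← map_mul, ← map_one (mk : SL →* P3)]
  exact mk_congr Ym_cube

theorem px_py : px h * py = (py * px h : P3) := by
  rw [px, py, ← map_mul, ← map_mul]
  exact mk_smul h.cube (XY h)

theorem pt_sq : pt * pt = (1 : P3) := by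
  rw [pt, ← map_mul, ← map_one (mk : SL →* P3)]
  exact mk_congr Tm_sq

theorem pf_sq : pf h * pf h = (pt : P3) := by
  rw [pf, ← map_mul]; exact mk_congr (Fm_sq h)

theorem pg_sq : pg h * pg h = (pt : P3) := by
  rw [pg, ← map_mul]; exact mk_congr (Gm_sq h)

theorem f_x : pf h * px h * (pf h)⁻¹ = (py * py : P3) := by
  rw [mul_inv_eq_iff_eq_mul, pf, px, py, ← map_mul, ← map_mul, ← map_mul]
  exact mk_congr (FX h)

theorem f_y : pf h * py * (pf h)⁻¹ = (px h : P3) := by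
  rw [mul_inv_eq_iff_eq_mul, pf, px, py, ← map_mul, ← map_mul]
  exact mk_congr (FY h)

theorem g_x : pg h * px h * (pg h)⁻¹ = (py * py * px h : P3) := by
  rw [mul_inv_eq_iff_eq_mul, pg, px, py, ← map_mul, ← map_mul, ← map_mul, ← map_mul]
  exact mk_smul h.cube (GX h)

theorem t_x : pt * px h * pt⁻¹ = (px h * px h : P3) := by
  rw [mul_inv_eq_iff_eq_mul, pt, px, ← map_mul, ← map_mul, ← map_mul]
  exact mk_congr (TX h)

theorem t_y : pt * py * pt⁻¹ = (py * py : P3) := by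
  rw [mul_inv_eq_iff_eq_mul, pt, py, ← map_mul, ← map_mul, ← map_mul]
  exact mk_congr TY

theorem pt_ne_one (h2 : (2 : F) ≠ 0) : (pt : P3) ≠ 1 := fun e => by
  obtain ⟨c, -, hc⟩ := mk_eq_one.1 e
  have e1 := congrFun (congrFun hc 1) 2
  simp [sT, Tm] at e1

theorem mem_E {a : P3} : a ∈ E h ↔ ∃ i j : Fin 3, a = px h ^ (i : ℕ) * py ^ (j : ℕ) := by
  constructor
  · intro ha
    obtain ⟨A, rfl⟩ := mk_surj a
    rw [E, Subgroup.mem_centralizer_iff] at ha
    obtain ⟨c, hc, he⟩ := comm_iff.1 (ha (px h) (Or.inl rfl))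
    obtain ⟨d, hd, hf⟩ := comm_iff.1 (ha py (Or.inr rfl))
    change A.1 * Xm ω = c • (Xm ω * A.1) at he
    change A.1 * Ym = d • (Ym * A.1) at hf
    have hyx : Ym * Xm ω = (ω * ω) • (Xm ω * Ym) := by
      rw [XY h, smul_smul, show ω * ω * ω = ω ^ 3 by ring, h.cube, one_smul]
    -- exponents
    obtain ⟨k, hk⟩ : ∃ k : Fin 3, (A.1 * Ym ^ (k : ℕ)) * Xm ω = Xm ω * (A.1 * Ym ^ (k : ℕ)) := by
      rcases h.cases hc with e | e | e <;> rw [e] at he
      · exact ⟨0, by simpa using he⟩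
      · refine ⟨1, ?_⟩
        simp only [Fin.val_one, pow_one]
        rw [mul_assoc, hyx, Matrix.mul_smul, ← mul_assoc, he, Matrix.smul_mul, smul_smul,
          show ω * ω * ω = ω ^ 3 by ring, h.cube, one_smul, mul_assoc]
      · refine ⟨2, ?_⟩
        simp only [Fin.val_two, pow_two]
        rw [mul_assoc, mul_assoc Ym Ym (Xm ω), hyx, Matrix.mul_smul, ← mul_assoc Ym (Xm ω) Ym, hyx,
          Matrix.smul_mul, smul_smul, Matrix.mul_smul, mul_assoc (Xm ω), ← mul_assoc A.1, he,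
          Matrix.smul_mul, smul_smul,
          show ω * ω * (ω * ω) * (ω * ω) = (ω ^ 3) ^ 2 by ring, h.cube, one_pow, one_smul, mul_assoc]
    set B := A * sY ^ (k : ℕ) with hB
    have hBX : B.1 * Xm ω = Xm ω * B.1 := by
      rw [hB, val_mul, Matrix.SpecialLinearGroup.coe_pow]; exact hk
    have hBY : B.1 * Ym = d • (Ym * B.1) := by
      rw [hB, val_mul, Matrix.SpecialLinearGroup.coe_pow]
      show A.1 * Ym ^ (k : ℕ) * Ym = d • (Ym * (A.1 * Ym ^ (k : ℕ)))
      rw [mul_assoc, ← (Commute.self_pow (Ym : Mn) (k : ℕ)).eq, ← mul_assoc, hf, Matrix.smul_mul,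
        mul_assoc]
    obtain ⟨l, hl⟩ : ∃ l : Fin 3, (B.1 * Xm ω ^ (l : ℕ)) * Ym = Ym * (B.1 * Xm ω ^ (l : ℕ)) := by
      rcases h.cases hd with e | e | e <;> rw [e] at hBY
      · exact ⟨0, by simpa using hBY⟩
      · refine ⟨2, ?_⟩
        simp only [Fin.val_two, pow_two]
        rw [mul_assoc, mul_assoc (Xm ω) (Xm ω) Ym, XY h, Matrix.mul_smul, ← mul_assoc (Xm ω) Ym (Xm ω),
          XY h, Matrix.smul_mul, smul_smul, Matrix.mul_smul, mul_assoc Ym, ← mul_assoc B.1, hBY,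
          Matrix.smul_mul, smul_smul, show ω * ω * ω = ω ^ 3 by ring, h.cube, one_smul, mul_assoc]
      · refine ⟨1, ?_⟩
        simp only [Fin.val_one, pow_one]
        rw [mul_assoc, XY h, Matrix.mul_smul, ← mul_assoc, hBY, Matrix.smul_mul, smul_smul,
          show ω * (ω * ω) = ω ^ 3 by ring, h.cube, one_smul, mul_assoc]
    have hlX : (B.1 * Xm ω ^ (l : ℕ)) * Xm ω = Xm ω * (B.1 * Xm ω ^ (l : ℕ)) := by
      rw [mul_assoc, ← (Commute.self_pow (Xm ω) (l : ℕ)).eq, ← mul_assoc, hBX, mul_assoc]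
    have hsc := scalar_of_commXY h hlX hl
    set s := (B.1 * Xm ω ^ (l : ℕ)) 0 0
    have hs : (mk (B * sX h ^ (l : ℕ)) : P3) = 1 := by
      refine mk_eq_one.2 ⟨s, ?_, by rw [val_mul, Matrix.SpecialLinearGroup.coe_pow]; exact hsc⟩
      have := (B * sX h ^ (l : ℕ)).2
      rw [val_mul, Matrix.SpecialLinearGroup.coe_pow] at this
      change (B.1 * Xm ω ^ (l : ℕ)).det = 1 at this
      rwa [hsc, Matrix.det_smul, Matrix.det_one, mul_one, Fintype.card_fin] at this
    rw [map_mul, map_pow, hB, map_mul, map_pow, mul_eq_one_iff_eq_inv, ← eq_mul_inv_iff_mul_eq] at hs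
    change mk A = ((px h : P3) ^ (l : ℕ))⁻¹ * ((py : P3) ^ (k : ℕ))⁻¹ at hs
    have inv3 : ∀ (a : P3) (n : Fin 3), a * (a * a) = 1 → (a ^ (n : ℕ))⁻¹ = a ^ ((-n : Fin 3) : ℕ) := by
      intro a n ha
      refine inv_eq_of_mul_eq_one_right ?_
      rw [← pow_add]
      fin_cases n
      · simp
      · show a ^ (1 + 2) = 1
        simpa [pow_succ'] using ha
      · show a ^ (2 + 1) = 1
        simpa [pow_succ'] using ha
    exact ⟨-l, -k, by rw [hs, inv3 _ _ (px_cube h), inv3 _ _ py_cube]⟩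
  · rintro ⟨i, j, rfl⟩
    refine mul_mem (pow_mem ?_ _) (pow_mem ?_ _) <;> rw [E, Subgroup.mem_centralizer_iff] <;>
      rintro b (rfl | rfl)
    · rfl
    · exact (px_py h).symm
    · exact px_py h
    · rfl

theorem px_mem : (px h : P3) ∈ E h := (mem_E h).2 ⟨1, 0, by simp⟩

theorem py_mem : (py : P3) ∈ E h := (mem_E h).2 ⟨0, 1, by simp⟩

theorem E_comm {a b : P3} (ha : a ∈ E h) (hb : b ∈ E h) : a * b = b * a := by
  obtain ⟨i, j, rfl⟩ := (mem_E h).1 hb
  have hx : Commute a (px h) := ((Subgroup.mem_centralizer_iff.1 ha) _ (Or.inl rfl)).symm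
  have hy : Commute a py := ((Subgroup.mem_centralizer_iff.1 ha) _ (Or.inr rfl)).symm
  exact (hx.pow_right _).mul_right (hy.pow_right _)

theorem E_cube {a : P3} (ha : a ∈ E h) : a ^ 3 = 1 := by
  obtain ⟨i, j, rfl⟩ := (mem_E h).1 ha
  have hc : Commute ((px h : P3) ^ (i : ℕ)) (py ^ (j : ℕ)) := Commute.pow_pow (px_py h) _ _
  rw [hc.mul_pow, ← pow_mul, ← pow_mul, mul_comm (i : ℕ), mul_comm (j : ℕ), pow_mul, pow_mul,
    show (px h : P3) ^ 3 = 1 by simpa [pow_succ'] using px_cube h,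
    show (py : P3) ^ 3 = 1 by simpa [pow_succ'] using (py_cube (F := F)), one_pow, one_pow, one_mul]

theorem E_t {a : P3} (ha : a ∈ E h) : pt * a * pt⁻¹ = a⁻¹ := by
  obtain ⟨i, j, rfl⟩ := (mem_E h).1 ha
  have hinv : ∀ b : P3, b * (b * b) = 1 → b * b = b⁻¹ := fun b hb =>
    (inv_eq_of_mul_eq_one_right hb).symm
  rw [← _root_.conj_mul, ← conj_pow, ← conj_pow, t_x, t_y, hinv _ (px_cube h), hinv _ py_cube, inv_pow, inv_pow,
    ← _root_.mul_inv_rev]
  congr 1
  exact (Commute.pow_pow (px_py h) _ _).symm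

theorem E_card : Nat.card (E h) = 9 := by
  let φ : Fin 3 × Fin 3 → E h := fun a => ⟨px h ^ (a.1 : ℕ) * py ^ (a.2 : ℕ), (mem_E h).2 ⟨_, _, rfl⟩⟩
  have hone : ∀ i j : Fin 3, (px h : P3) ^ (i : ℕ) * py ^ (j : ℕ) = 1 → i = 0 ∧ j = 0 := by
    intro i j e
    rw [px, py, ← map_pow, ← map_pow, ← map_mul, mk_eq_one] at e
    obtain ⟨c, -, hc⟩ := e
    rw [val_mul, Matrix.SpecialLinearGroup.coe_pow, Matrix.SpecialLinearGroup.coe_pow] at hc
    change Xm ω ^ (i : ℕ) * (Ym : Mn) ^ (j : ℕ) = c • 1 at hc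
    have e00 := congrFun (congrFun hc 0) 0
    have e10 := congrFun (congrFun hc 1) 0
    have e20 := congrFun (congrFun hc 2) 0
    have e11 := congrFun (congrFun hc 1) 1
    have := h.ne_zero
    have := h.ne_one
    have := h.sq_ne
    rw [Xm, Matrix.diagonal_pow] at e00 e10 e20 e11
    simp only [Matrix.diagonal_mul, Pi.pow_apply] at e00 e10 e20 e11
    fin_cases i <;> fin_cases j <;>
      simp [Ym, pow_two, Matrix.mul_apply, Fin.sum_univ_three] at e00 e10 e20 e11 ⊢ <;> grind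
  have hb : Function.Bijective φ := by
    refine ⟨fun a b e => ?_, fun ⟨a, ha⟩ => ?_⟩
    · have e' : (px h : P3) ^ (a.1 : ℕ) * py ^ (a.2 : ℕ) = px h ^ (b.1 : ℕ) * py ^ (b.2 : ℕ) :=
        congrArg Subtype.val e
      have hx3 : ∀ n : ℕ, (px h : P3) ^ n = px h ^ (n % 3) := fun n => pow_eq_pow_mod n (by
        simpa [pow_succ'] using px_cube h)
      have hy3 : ∀ n : ℕ, (py : P3) ^ n = py ^ (n % 3) := fun n => pow_eq_pow_mod n (by
        simpa [pow_succ'] using (py_cube (F := F)))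
      have e1 : (px h : P3) ^ (((a.1 - b.1 : Fin 3)) : ℕ) * py ^ (((a.2 - b.2 : Fin 3)) : ℕ) = 1 := by
        rw [Fin.coe_sub, Fin.coe_sub, ← hx3, ← hy3, pow_add, pow_add]
        calc (px h : P3) ^ (3 - (b.1 : ℕ)) * px h ^ (a.1 : ℕ) * (py ^ (3 - (b.2 : ℕ)) * py ^ (a.2 : ℕ))
            = px h ^ (3 - (b.1 : ℕ)) * (px h ^ (a.1 : ℕ) * py ^ (a.2 : ℕ)) * py ^ (3 - (b.2 : ℕ)) := by
              rw [← pow_add (py : P3), add_comm, pow_add]; group
          _ = px h ^ (3 - (b.1 : ℕ)) * (px h ^ (b.1 : ℕ) * py ^ (b.2 : ℕ)) * py ^ (3 - (b.2 : ℕ)) := by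
              rw [e']
          _ = 1 := by
            rw [← mul_assoc, ← pow_add, mul_assoc, ← pow_add, hx3, hy3,
              show (3 - (b.1 : ℕ) + (b.1 : ℕ)) = 3 by omega, show ((b.2 : ℕ) + (3 - (b.2 : ℕ))) = 3 by omega]
            simp
      obtain ⟨h1, h2⟩ := hone _ _ e1
      exact Prod.ext (sub_eq_zero.1 h1) (sub_eq_zero.1 h2)
    · obtain ⟨i, j, rfl⟩ := (mem_E h).1 ha
      exact ⟨(i, j), rfl⟩
  rw [← Nat.card_eq_of_bijective φ hb, Nat.card_prod, Nat.card_fin]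

/-- The two Fourier elements move the first generator to every line. -/
theorem exists_conj {e : P3} (he : e ∈ E h) (he1 : e ≠ 1) :
    ∃ w ∈ Subgroup.closure ({pf h, pg h} : Set P3), e = w * px h * w⁻¹ ∨ e⁻¹ = w * px h * w⁻¹ := by
  have hf : pf h ∈ Subgroup.closure ({pf h, pg h} : Set P3) := Subgroup.subset_closure (Or.inl rfl)
  have hg : pg h ∈ Subgroup.closure ({pf h, pg h} : Set P3) := Subgroup.subset_closure (Or.inr rfl)
  have hx3 : (px h : P3) * px h = (px h)⁻¹ := (inv_eq_of_mul_eq_one_right (px_cube h)).symm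
  have hy3 : (py : P3) * py = py⁻¹ := (inv_eq_of_mul_eq_one_right py_cube).symm
  have hc : Commute (px h : P3) py := px_py h
  obtain ⟨i, j, rfl⟩ := (mem_E h).1 he
  have cf : pf h * pg h * px h * (pf h * pg h)⁻¹ = ((px h)⁻¹ * py⁻¹ : P3) := by
    rw [show pf h * pg h * px h * (pf h * pg h)⁻¹ = pf h * (pg h * px h * (pg h)⁻¹) * (pf h)⁻¹ by group,
      g_x, ← _root_.conj_mul, ← _root_.conj_mul, f_y, f_x, hx3, hy3]
  fin_cases i <;> fin_cases j <;> simp only [pow_zero, pow_one, one_mul, mul_one, pow_two] at he1 ⊢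
  · exact absurd rfl he1
  · exact ⟨_, hf, Or.inr (by rw [f_x, hy3])⟩
  · exact ⟨_, hf, Or.inl (by rw [f_x])⟩
  · exact ⟨1, one_mem _, Or.inl (by simp)⟩
  · exact ⟨_, mul_mem hf hg, Or.inr (by rw [cf, hc.eq, _root_.mul_inv_rev])⟩
  · exact ⟨_, hg, Or.inl (by rw [g_x, hy3, ← (hc.inv_right).eq])⟩
  · exact ⟨1, one_mem _, Or.inr (by rw [hx3]; simp)⟩
  · exact ⟨_, hg, Or.inr (by rw [g_x, hy3, hx3, _root_.mul_inv_rev, inv_inv])⟩
  · exact ⟨_, mul_mem hf hg, Or.inl (by rw [cf, hx3, hy3])⟩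

theorem f_g_ne (h2 : (2 : F) ≠ 0) : pf h * pg h ≠ (pg h * pf h : P3) := by
  intro e
  rw [pf, pg] at e
  obtain ⟨c, hc, he⟩ := comm_iff.1 e
  change Gm ω * Fm ω = c • (Fm ω * Gm ω) at he
  have hd := h.sub_ne
  rw [Fm, Gm] at he
  simp only [Matrix.smul_mul, Matrix.mul_smul, smul_smul] at he
  have he' : (!![1, ω * ω, ω * ω; ω, ω, ω * ω; ω, ω * ω, ω] * !![1, 1, 1; 1, ω, ω * ω; 1, ω * ω, ω] : Mn) =
      c • (!![1, 1, 1; 1, ω, ω * ω; 1, ω * ω, ω] * !![1, ω * ω, ω * ω; ω, ω, ω * ω; ω, ω * ω, ω]) := by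
    refine smul_right_injective Mn (mul_ne_zero (inv_ne_zero hd) (inv_ne_zero hd)) ?_
    show _ • _ = _ • _
    rw [he, smul_smul]
    congr 1
    ring
  have e00 := congrFun (congrFun he' 0) 0
  simp [Matrix.mul_apply, Fin.sum_univ_three] at e00
  have hs : (1 + 2 * ω) * (1 + 2 * ω) = -3 := by linear_combination 4 * h.eq
  have h0 : (1 + 2 * ω) ≠ 0 := fun e0 => by
    rw [e0, mul_zero] at hs; exact h.three (by linear_combination hs)
  have hc1 : (c + 1) * (1 + 2 * ω) = 0 := by linear_combination -e00 + 2 * h.eq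
  have hc2 : c = -1 := eq_neg_of_add_eq_zero_left ((mul_eq_zero.1 hc1).resolve_right h0)
  rw [hc2] at hc
  exact h2 (by linear_combination -hc)

end rels

end CfsgLib.MaxSub.SLThree.Hess
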