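/-
Small geometric lemmas in `PSL(3, F)`: commuting involutions, centralisers, an order five obstruction.
-/
import Cfsg.Agent.Lib.MaxSub.SLThree.Hess.Grp

set_option autoImplicit false
set_option maxHeartbeats 800000
set_option linter.unusedSectionVars false

namespace CfsgLib.MaxSub.SLThree.Hess

open Matrix

variable {F : Type*} [Field F] {ω : F}

local notation "SL" => Matrix.SpecialLinearGroup (Fin 3) F
local notation "Mn" => Matrix (Fin 3) (Fin 3) F
local notation "P3" => Matrix.ProjectiveSpecialLinearGroup (Fin 3) F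

/-- The centre of the quaternion group is the only involution commuting with it. -/
theorem center_invol (h : Root ω) (h2 : (2 : F) ≠ 0) {d : P3} (hd : d * d = 1) (hd1 : d ≠ 1)
    (hf : d * pf h = pf h * d) (hg : d * pg h = pg h * d) : d = pt := by
  obtain ⟨D, rfl, hD, hD1⟩ := exists_lift_invol hd hd1
  rcases commFG h hD D.2 h2 (invol_comm hD hf) (invol_comm hD hg) with e | e
  · exact absurd e hD1
  · exact mk_congr e

/-- An involution commuting with the first generator commutes with a different conjugate of it. -/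
theorem commX_invol (h : Root ω) {d : P3} (hd : d * d = 1) (hd1 : d ≠ 1) (hx : d * px h = px h * d) :
    (py * d * py⁻¹ : P3) ≠ d ∧ d * (py * d * py⁻¹) = (py * d * py⁻¹) * d ∧
      (py * d * py⁻¹) * px h = px h * (py * d * py⁻¹) := by
  obtain ⟨D, rfl, hD, hD1⟩ := exists_lift_invol hd hd1
  have hdg := diag_of_commX h (invol_comm hD hx)
  refine ⟨fun e => hD1 ?_, ?_, ?_⟩
  · have e' : mk D * py = py * mk D := by
      nth_rw 1 [← e]
      group
    have hy := circ_of_commY (invol_comm hD e')
    have h1 : D.1 1 1 = D.1 0 0 := by conv_lhs => rw [hy]; simp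
    have h2' : D.1 2 2 = D.1 0 0 := by conv_lhs => rw [hy]; simp
    have hdet := D.2
    rw [hdg, Matrix.det_diagonal, Fin.prod_univ_three, h1, h2'] at hdet
    have hq := congrFun (congrFun hD 0) 0
    rw [hdg, Matrix.diagonal_mul_diagonal, Matrix.diagonal_apply_eq, Matrix.one_apply_eq] at hq
    have ha : D.1 0 0 = 1 := by linear_combination hdet - D.1 0 0 * hq
    rw [hdg, ← Matrix.diagonal_one]
    congr 1
    funext i
    fin_cases i
    · exact ha
    · exact h1.trans ha
    · exact h2'.trans ha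
  · have hk : py * mk D * py⁻¹ = mk (sY * D * sY⁻¹ : SL) := by rw [map_mul, map_mul, map_inv]; rfl
    rw [hk, ← map_mul, ← map_mul]
    refine mk_congr ?_
    have hY : ((sY : SL)⁻¹).1 = (Ym * Ym : Mn) := by
      refine (left_inv_eq_right_inv ?_ Ym_cube)
      exact congrArg Subtype.val (inv_mul_cancel (sY : SL))
    show D.1 * (Ym * D.1 * ((sY : SL)⁻¹).1) = Ym * D.1 * ((sY : SL)⁻¹).1 * D.1
    rw [hY, hdg]
    ext i j
    rw [Matrix.diagonal_mul, Matrix.mul_diagonal]
    fin_cases i <;> fin_cases j <;>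
      (simp only [Matrix.mul_apply, Fin.sum_univ_three]; simp [Ym]) <;> ring
  · have hc : Commute (px h : P3) py := px_py h
    exact ((hc.mul_right (show Commute (px h) (mk D) from hx.symm)).mul_right hc.inv_right).eq.symm

/-- An element of order prime to three centralising `x`, commuting with its Fourier conjugate, is trivial. -/
theorem coprime_centX (h : Root ω) {a : P3} {r : ℕ} (hr : r % 3 ≠ 0) (ha : a ^ r = 1)
    (hx : a * px h = px h * a) (hf : a * (pf h * a * (pf h)⁻¹) = (pf h * a * (pf h)⁻¹) * a) : a = 1 := by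
  obtain ⟨A, rfl⟩ := mk_surj a
  set B := sF h * A * (sF h)⁻¹ with hB
  have hBm : mk B = pf h * mk A * (pf h)⁻¹ := by rw [hB, map_mul, map_mul, map_inv]; rfl
  rw [← hBm] at hf
  have hAX : A.1 * Xm ω = Xm ω * A.1 := coprime_comm hr ha hx
  have hAB := coprime_comm hr ha hf
  have hBy : B.1 * (Ym * Ym) = (Ym * Ym) * B.1 := by
    have hinv : ((sF h)⁻¹).1 * Fm ω = 1 := congrArg Subtype.val (inv_mul_cancel (sF h))
    have hinv' : Fm ω * ((sF h)⁻¹).1 = 1 := congrArg Subtype.val (mul_inv_cancel (sF h))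
    have hYY : (Ym : Mn) * Ym = Fm ω * Xm ω * ((sF h)⁻¹).1 := by
      rw [FX h, mul_assoc _ (Fm ω), hinv', mul_one]
    rw [hYY]
    show Fm ω * A.1 * ((sF h)⁻¹).1 * (Fm ω * Xm ω * ((sF h)⁻¹).1) =
      Fm ω * Xm ω * ((sF h)⁻¹).1 * (Fm ω * A.1 * ((sF h)⁻¹).1)
    simp only [mul_assoc]
    rw [← mul_assoc ((sF h)⁻¹).1, ← mul_assoc ((sF h)⁻¹).1, hinv, one_mul, one_mul, ← mul_assoc A.1,
      hAX, mul_assoc]
  have hBy' : B.1 * Ym = Ym * B.1 := by
    have h4 : (Ym : Mn) * Ym * (Ym * Ym) = Ym := by rw [mul_assoc, Ym_cube, mul_one]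
    have hc : Commute B.1 (Ym * Ym) := hBy
    have h5 := (hc.mul_right hc).eq
    rwa [h4] at h5
  have hd := diag_of_commX h (show A.1 * Xm ω = Xm ω * A.1 from hAX)
  have hcB := circ_of_commY hBy'
  have e : ∀ i j, (A.1 i i - A.1 j j) * B.1 i j = 0 := fun i j => by
    have := congrFun (congrFun hAB i) j
    rw [hd, Matrix.diagonal_mul, Matrix.mul_diagonal] at this
    linear_combination this
  have key : A.1 1 1 = A.1 0 0 ∧ A.1 2 2 = A.1 0 0 := by
    by_cases hb : B.1 0 1 = 0
    · by_cases hb2 : B.1 0 2 = 0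
      · -- the conjugate is scalar
        have hBs : B.1 = B.1 0 0 • (1 : Mn) := by
          ext i j
          conv_lhs => rw [hcB]
          fin_cases i <;> fin_cases j <;> simp [hb, hb2]
        have hA : A.1 = B.1 0 0 • (1 : Mn) := by
          have : A.1 = ((sF h)⁻¹).1 * B.1 * Fm ω := by
            show A.1 = (((sF h)⁻¹ * B) * sF h).1
            rw [hB, show (sF h)⁻¹ * (sF h * A * (sF h)⁻¹) * sF h = A by group]
          rw [this, hBs, Matrix.mul_smul, mul_one, Matrix.smul_mul, show ((sF h)⁻¹).1 * Fm ω = 1 from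
            congrArg Subtype.val (inv_mul_cancel (sF h))]
          simp
        constructor <;> rw [hA] <;> simp
      · have e1 := e 0 2
        have e2 := e 1 0
        have h10 : B.1 1 0 = B.1 0 2 := by conv_lhs => rw [hcB]; simp
        rw [h10] at e2
        have a1 := (mul_eq_zero.1 e1).resolve_right hb2
        have a2 := (mul_eq_zero.1 e2).resolve_right hb2
        exact ⟨by linear_combination a2, by linear_combination -a1⟩
    · have e1 := e 0 1
      have e2 := e 1 2
      have h12 : B.1 1 2 = B.1 0 1 := by conv_lhs => rw [hcB]; simp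
      rw [h12] at e2
      have a1 := (mul_eq_zero.1 e1).resolve_right hb
      have a2 := (mul_eq_zero.1 e2).resolve_right hb
      exact ⟨by linear_combination -a1, by linear_combination -a1 - a2⟩
  refine mk_eq_one.2 ⟨A.1 0 0, ?_, ?_⟩
  · have := A.2
    rw [hd, Matrix.det_diagonal, Fin.prod_univ_three, key.1, key.2] at this
    linear_combination this
  · rw [hd, Matrix.smul_one_eq_diagonal]
    congr 1
    funext i
    fin_cases i
    · simp
    · simpa using key.1
    · simpa using key.2

/-! ### Commuting involutions -/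

theorem signs (h2 : (2 : F) ≠ 0) {s : Fin 3 → F} (hs : ∀ j, s j = 1 ∨ s j = -1)
    (hp : ∏ j, s j = 1) (hne : ¬ ∀ j, s j = 1) : ∃ i, ∀ j, s j = if j = i then 1 else -1 := by
  rw [Fin.prod_univ_three] at hp
  rcases hs 0 with a | a <;> rcases hs 1 with b | b <;> rcases hs 2 with c | c <;>
    simp only [a, b, c] at hp <;>
    first
      | exact absurd (Fin.forall_fin_succ.2 ⟨a, Fin.forall_fin_succ.2 ⟨b, Fin.forall_fin_one.2 c⟩⟩) hne
      | exact absurd (show (2 : F) = 0 by linear_combination hp) h2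
      | exact absurd (show (2 : F) = 0 by linear_combination -hp) h2
      | (refine ⟨0, fun j => ?_⟩; fin_cases j <;> simp [a, b, c]; done)
      | (refine ⟨1, fun j => ?_⟩; fin_cases j <;> simp [a, b, c]; done)
      | (refine ⟨2, fun j => ?_⟩; fin_cases j <;> simp [a, b, c]; done)

/-- The square roots of the identity in a frame. -/
theorem exists_frame (h2 : (2 : F) ≠ 0) {ι : Type*} [Fintype ι] (A : ι → SL)
    (hsq : ∀ a, (A a).1 * (A a).1 = 1) (hc : ∀ a b, (A a).1 * (A b).1 = (A b).1 * (A a).1) :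
    ∃ (P : GL (Fin 3) F) (s : ι → Fin 3 → F), (∀ a, (A a).1 = P.1 * Matrix.diagonal (s a) * (P⁻¹).1) ∧
      (∀ a j, s a j = 1 ∨ s a j = -1) ∧ ∀ a, ∏ j, s a j = 1 := by
  obtain ⟨P, s, hs, he⟩ := InvolutionDiag.exists_diag h2 (fun a => (A a).1) hsq hc
  refine ⟨P, s, he, hs, fun a => ?_⟩
  have := congrArg Matrix.det (he a)
  rw [(A a).2, Matrix.det_units_conj, Matrix.det_diagonal] at this
  exact this.symm

theorem ne_one_of_signs {P : GL (Fin 3) F} {D : Mn} {s : Fin 3 → F}
    (he : D = P.1 * Matrix.diagonal s * (P⁻¹).1) (hD : D ≠ 1) : ¬ ∀ j, s j = 1 := fun hall => hD (by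
  rw [he, show s = fun _ => 1 from funext hall, Matrix.diagonal_one, mul_one, Units.mul_inv])

/-- The `2`-rank is at most two. -/
theorem rank_two (h2 : (2 : F) ≠ 0) {A : Subgroup P3} [Finite A] (hc : ∀ a ∈ A, ∀ b ∈ A, a * b = b * a)
    (he : ∀ a ∈ A, a * a = 1) : Nat.card A ≤ 4 := by
  classical
  haveI := Fintype.ofFinite A
  have hl : ∀ a : A, ∃ D : SL, mk D = (a : P3) ∧ D.1 * D.1 = 1 := fun a => by
    by_cases h1 : (a : P3) = 1
    · exact ⟨1, by rw [map_one, h1], by show (1 : Mn) * 1 = 1; rw [mul_one]⟩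
    · obtain ⟨D, hD, hD2, -⟩ := exists_lift_invol (he _ a.2) h1
      exact ⟨D, hD, hD2⟩
  choose L hL hsq using hl
  obtain ⟨P, s, hs, hpm, hp⟩ := exists_frame h2 L hsq fun a b =>
    invol_comm (hsq a) (by rw [hL, hL]; exact hc _ a.2 _ b.2)
  let φ : A → Bool × Bool := fun a => (decide (s a 0 = 1), decide (s a 1 = 1))
  have hne : (1 : F) ≠ -1 := fun e => h2 (by linear_combination e)
  have hinj : Function.Injective φ := fun a b e => by
    have h0 : s a 0 = s b 0 := by
      have := congrArg Prod.fst e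
      simp only [φ, decide_eq_decide] at this
      rcases hpm a 0 with u | u <;> rcases hpm b 0 with v | v <;> rw [u, v] at this ⊢ <;> simp_all
    have h1 : s a 1 = s b 1 := by
      have := congrArg Prod.snd e
      simp only [φ, decide_eq_decide] at this
      rcases hpm a 1 with u | u <;> rcases hpm b 1 with v | v <;> rw [u, v] at this ⊢ <;> simp_all
    have h2' : s a 2 = s b 2 := by
      have ea := hp a
      have eb := hp b
      rw [Fin.prod_univ_three] at ea eb
      rw [h0, h1] at ea
      refine mul_left_cancel₀ ?_ (ea.trans eb.symm)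
      intro z
      rw [z, zero_mul] at eb
      exact zero_ne_one eb
    refine Subtype.ext ?_
    rw [← hL a, ← hL b]
    refine mk_congr ?_
    rw [hs, hs, show s a = s b from funext fun j => by fin_cases j <;> assumption]
  refine (Nat.card_le_card_of_injective φ hinj).trans ?_
  simp

/-- Two commuting distinct involutions in a common frame. -/
theorem frame_pair (h2 : (2 : F) ≠ 0) {d e : P3} (hd : d * d = 1) (hd1 : d ≠ 1) (he : e * e = 1)
    (he1 : e ≠ 1) (hde : d * e = e * d) (hne : d ≠ e) :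
    ∃ (D E : SL) (P : GL (Fin 3) F) (i k : Fin 3), mk D = d ∧ mk E = e ∧ D.1 * D.1 = 1 ∧ E.1 * E.1 = 1 ∧
      i ≠ k ∧ D.1 = P.1 * Matrix.diagonal (fun j => if j = i then (1 : F) else -1) * (P⁻¹).1 ∧
      E.1 = P.1 * Matrix.diagonal (fun j => if j = k then (1 : F) else -1) * (P⁻¹).1 := by
  obtain ⟨D, rfl, hD, hD1⟩ := exists_lift_invol hd hd1
  obtain ⟨E, rfl, hE, hE1⟩ := exists_lift_invol he he1
  obtain ⟨P, s, hs, hpm, hp⟩ := exists_frame h2 (fun b : Bool => if b then D else E)
    (fun b => by cases b <;> simpa) (fun a b => by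
      have := invol_comm hD hde
      cases a <;> cases b <;> simp [this])
  obtain ⟨i, hi⟩ := signs h2 (hpm true) (hp true) (ne_one_of_signs (hs true) (by simpa using hD1))
  obtain ⟨k, hk⟩ := signs h2 (hpm false) (hp false) (ne_one_of_signs (hs false) (by simpa using hE1))
  have eD := hs true
  have eE := hs false
  rw [if_pos rfl, funext hi] at eD
  rw [if_neg (by simp), funext hk] at eE
  refine ⟨D, E, P, i, k, rfl, rfl, hD, hE, fun hik => hne (mk_congr ?_), eD, eE⟩
  rw [eD, eE, hik]

/-- Conjugation into a frame. -/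
theorem frame_entries {P : GL (Fin 3) F} {D A : Mn} {s : Fin 3 → F}
    (hD : D = P.1 * Matrix.diagonal s * (P⁻¹).1) (h : D * A = A * D) (a b : Fin 3) :
    (s a - s b) * ((P⁻¹).1 * A * P.1) a b = 0 := by
  have e : Matrix.diagonal s * ((P⁻¹).1 * A * P.1) = ((P⁻¹).1 * A * P.1) * Matrix.diagonal s := by
    have := congrArg (fun M => (P⁻¹).1 * M * P.1) h
    simp only [hD, mul_assoc, Units.inv_mul_cancel_left, Units.inv_mul, mul_one] at this
    simpa only [mul_assoc] using this
  have := congrFun (congrFun e a) b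
  rw [Matrix.diagonal_mul, Matrix.mul_diagonal] at this
  linear_combination this

/-- The centraliser of a four-group is commutative. -/
theorem cent_four (h2 : (2 : F) ≠ 0) {d e a b : P3} (hd : d * d = 1) (hd1 : d ≠ 1) (he : e * e = 1)
    (he1 : e ≠ 1) (hde : d * e = e * d) (hne : d ≠ e) (had : d * a = a * d) (hae : e * a = a * e)
    (hbd : d * b = b * d) (hbe : e * b = b * e) : a * b = b * a := by
  obtain ⟨D, E, P, i, k, rfl, rfl, hD, hE, hik, eD, eE⟩ := frame_pair h2 hd hd1 he he1 hde hne
  obtain ⟨A, rfl⟩ := mk_surj a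
  obtain ⟨B, rfl⟩ := mk_surj b
  have hpm : (1 : F) - -1 ≠ 0 := fun e => h2 (by linear_combination e)
  have hdiag : ∀ C : SL, D.1 * C.1 = C.1 * D.1 → E.1 * C.1 = C.1 * E.1 →
      ∀ x y : Fin 3, x ≠ y → ((P⁻¹).1 * C.1 * P.1) x y = 0 := by
    intro C h1 h2' x y hxy
    have e1 := frame_entries eD h1 x y
    have e2 := frame_entries eE h2' x y
    rcases mul_eq_zero.1 e1 with z | z
    · rcases mul_eq_zero.1 e2 with w | w
      · exfalso
        split_ifs at z w <;> first
          | (subst_vars; exact hxy rfl)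
          | exact hpm z
          | exact hpm (by linear_combination -z)
          | exact hpm w
          | exact hpm (by linear_combination -w)
          | omega
      · exact w
    · exact z
  have hA := hdiag A (invol_comm hD had) (invol_comm hE hae)
  have hB := hdiag B (invol_comm hD hbd) (invol_comm hE hbe)
  have hd' : ∀ M : Mn, (∀ x y : Fin 3, x ≠ y → M x y = 0) → M = Matrix.diagonal fun x => M x x :=
    fun M hM => by
      ext x y
      by_cases hxy : x = y
      · subst hxy; simp
      · rw [hM x y hxy, Matrix.diagonal_apply_ne _ hxy]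
  have hcomm : ((P⁻¹).1 * A.1 * P.1) * ((P⁻¹).1 * B.1 * P.1) =
      ((P⁻¹).1 * B.1 * P.1) * ((P⁻¹).1 * A.1 * P.1) := by
    rw [hd' _ hA, hd' _ hB, Matrix.diagonal_mul_diagonal, Matrix.diagonal_mul_diagonal]
    congr 1
    funext x
    exact mul_comm _ _
  rw [← map_mul, ← map_mul]
  refine mk_congr ?_
  show A.1 * B.1 = B.1 * A.1
  have := congrArg (fun M => P.1 * M * (P⁻¹).1) hcomm
  simpa only [mul_assoc, Units.mul_inv_cancel_left, Units.mul_inv, mul_one] using this

/-- Scalar on the axes of two commuting involutions means scalar. -/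
theorem scalar_of_axes (h2 : (2 : F) ≠ 0) {d e : P3} (hd : d * d = 1) (hd1 : d ≠ 1) (he : e * e = 1)
    (he1 : e ≠ 1) (hde : d * e = e * d) (hne : d ≠ e) {D E X : SL} (hDd : mk D = d) (hD : D.1 * D.1 = 1)
    (hEe : mk E = e) (hE : E.1 * E.1 = 1)
    {a b : F} (hx : X.1 * (1 - D.1) = a • (1 - D.1)) (hy : X.1 * (1 - E.1) = b • (1 - E.1)) :
    X.1 = a • (1 : Mn) := by
  obtain ⟨D', E', P, i, k, hD', hE', hD'2, hE'2, hik, eD, eE⟩ := frame_pair h2 hd hd1 he he1 hde hne
  have huniq : ∀ A B : SL, mk A = (mk B : P3) → A.1 * A.1 = 1 → B.1 * B.1 = 1 → A.1 = B.1 := by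
    intro A B h hA hB
    obtain ⟨c, hc, hcB⟩ := mk_eq_iff.1 h
    rw [hcB, Matrix.smul_mul, Matrix.mul_smul, hA, smul_smul] at hB
    have hc2 : c * c = 1 := eq_one_of_smul one_ne_zero hB
    rw [hcB, show c = 1 by linear_combination hc - c * hc2, one_smul]
  rw [huniq D D' (hDd.trans hD'.symm) hD hD'2, eD] at hx
  rw [huniq E E' (hEe.trans hE'.symm) hE hE'2, eE] at hy
  set M := (P⁻¹).1 * X.1 * P.1
  have key : ∀ (c : F) (l : Fin 3),
      X.1 * (1 - P.1 * Matrix.diagonal (fun j => if j = l then (1 : F) else -1) * (P⁻¹).1) =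
        c • (1 - P.1 * Matrix.diagonal (fun j => if j = l then (1 : F) else -1) * (P⁻¹).1) →
      ∀ x y, y ≠ l → M x y = if x = y then c else 0 := by
    intro c l hxl x y hy'
    have e0 := congrArg (fun N => (P⁻¹).1 * N * P.1) hxl
    simp only [Matrix.mul_sub, Matrix.sub_mul, Matrix.mul_smul, Matrix.smul_mul, mul_one, mul_assoc,
      Units.inv_mul_cancel_left, Units.inv_mul] at e0
    have e1 : M - M * Matrix.diagonal (fun j => if j = l then (1 : F) else -1) =
        c • ((1 : Mn) - Matrix.diagonal (fun j => if j = l then (1 : F) else -1)) := by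
      simpa only [M, mul_assoc] using e0
    have e2 := congrFun (congrFun e1 x) y
    simp only [Matrix.sub_apply, Matrix.mul_diagonal, if_neg hy', Matrix.smul_apply, Matrix.one_apply,
      Matrix.diagonal_apply, smul_eq_mul] at e2
    refine mul_left_cancel₀ h2 ?_
    split_ifs at e2 ⊢ with hxy hxl'
    · exact absurd (hxy.symm.trans hxl') hy'
    · linear_combination e2
    · linear_combination e2
  have kD := key a i hx
  have kE := key b k hy
  have hex : ∀ i k : Fin 3, ∃ m : Fin 3, m ≠ i ∧ m ≠ k := by decide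
  obtain ⟨m, hmi, hmk⟩ := hex i k
  have hab : a = b := by
    have h1 := kD m m hmi
    have h2' := kE m m hmk
    rw [if_pos rfl] at h1 h2'
    exact h1.symm.trans h2'
  have hM : M = a • (1 : Mn) := by
    ext x y
    rw [Matrix.smul_apply, Matrix.one_apply, smul_eq_mul, mul_ite, mul_one, mul_zero]
    by_cases hy' : y = i
    · rw [kE x y (fun e => hik (hy'.symm.trans e)), hab]
    · exact kD x y hy'
  have := congrArg (fun N => P.1 * N * (P⁻¹).1) hM
  simpa only [M, mul_assoc, Units.mul_inv_cancel_left, Units.mul_inv, mul_one, Matrix.mul_smul,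
    Matrix.smul_mul, one_mul] using this

/-! ### Order five -/

theorem cayley_three (A : Mn) (h : A.det = 1) (h2 : (2 : F) ≠ 0) :
    A * (A * A) = A.trace • (A * A) - ((A.trace ^ 2 - (A * A).trace) / 2) • A + 1 := by
  rw [Matrix.det_fin_three] at h
  ext i j
  fin_cases i <;> fin_cases j <;>
    (simp only [Matrix.add_apply, Matrix.sub_apply, Matrix.smul_apply, Matrix.trace_fin_three,
      Matrix.mul_apply, Fin.sum_univ_three, smul_eq_mul]; simp) <;>
    field_simp <;> first
      | ring1
      | linear_combination (2 : F) * h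
      | linear_combination -(2 : F) * h

/-- No element of order five is conjugate to its square. -/
theorem five {p : ℕ} [Fact p.Prime] [CharP F p] (hp : 5 < p) {a c : P3} (ha : a ^ 5 = 1)
    (hc : c * a * c⁻¹ = a ^ 2) : a = 1 := by
  have h2 : (2 : F) ≠ 0 := fun e => by
    have := (CharP.cast_eq_zero_iff F p 2).1 (by exact_mod_cast e)
    have := Nat.le_of_dvd two_pos this
    omega
  obtain ⟨A₀, rfl⟩ := mk_surj a
  obtain ⟨C, rfl⟩ := mk_surj c
  set A := A₀ ^ 6 with hA
  have hmk : mk A₀ = (mk A : P3) := by rw [hA, map_pow, pow_succ, ha, one_mul]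
  have hA5 : A ^ 5 = 1 := by
    rw [← map_pow, mk_eq_one] at ha
    obtain ⟨s, hs, he⟩ := ha
    apply Subtype.ext
    rw [hA, ← pow_mul, mul_comm, pow_mul, Matrix.SpecialLinearGroup.coe_pow, he, smul_pow, one_pow,
      show s ^ 6 = (s ^ 3) ^ 2 by ring, hs, one_pow, one_smul, Matrix.SpecialLinearGroup.coe_one]
  rw [hmk] at hc ⊢
  rw [mul_inv_eq_iff_eq_mul, ← map_pow, ← map_mul, ← map_mul, mk_eq_iff] at hc
  obtain ⟨s, hs, he⟩ := hc
  -- the conjugation is exact
  set K := C * A * C⁻¹ with hK
  have hK' : K.1 = (s * s) • (A ^ 2).1 := by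
    have e1 : (C * A).1 = (s * s) • ((A ^ 2) * C).1 := by
      rw [he, smul_smul, show s * s * s = s ^ 3 by ring, hs, one_smul]
    rw [hK, val_mul (C * A), e1, Matrix.smul_mul, ← val_mul, mul_assoc, mul_inv_cancel, mul_one]
  have hs1 : s * s = 1 := by
    have h5 : (s * s) ^ 5 • (1 : Mn) = 1 := by
      have := congrArg (· ^ 5) hK'
      simp only [smul_pow] at this
      rw [← Matrix.SpecialLinearGroup.coe_pow, ← Matrix.SpecialLinearGroup.coe_pow, hK, conj_pow, hA5,
        mul_one, mul_inv_cancel, ← pow_mul, mul_comm 2 5, pow_mul, hA5, one_pow,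
        Matrix.SpecialLinearGroup.coe_one] at this
      exact this.symm
    have h6 := eq_one_of_smul one_ne_zero h5
    linear_combination (s + 1) * h6 - (s + 1) * s * (s ^ 6 + s ^ 3 + 1) * hs
  rw [hs1, one_smul] at hK'
  have htr : ∀ n : ℕ, ((A.1) ^ (2 * n)).trace = (A.1 ^ n).trace := fun n => by
    have e1 := congrArg (· ^ n) hK'
    simp only [← Matrix.SpecialLinearGroup.coe_pow, hK, conj_pow, ← pow_mul] at e1
    rw [Matrix.SpecialLinearGroup.coe_pow] at e1
    rw [← e1, val_mul, Matrix.trace_mul_comm, ← val_mul, inv_mul_cancel_left,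
      Matrix.SpecialLinearGroup.coe_pow]
  set N := A.1 with hN
  have h5' : N ^ 5 = 1 := by
    rw [← Matrix.SpecialLinearGroup.coe_pow, hA5, Matrix.SpecialLinearGroup.coe_one]
  set τ := N.trace with hτ
  have t2 : (N * N).trace = τ := by have := htr 1; rwa [mul_one, pow_one, pow_two] at this
  have t4 : (N ^ 4).trace = τ := by rw [show 4 = 2 * 2 by norm_num, htr, pow_two]; exact t2
  have t3 : (N ^ 3).trace = τ := by
    have := htr 4
    rw [show 2 * 4 = 5 + 3 by norm_num, pow_add, h5', one_mul] at this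
    rw [this, t4]
  have hch := cayley_three N A.2 h2
  rw [t2] at hch
  set m := (τ ^ 2 - τ) / 2 with hm
  have h4 : N ^ 4 = τ • N ^ 3 - m • (N * N) + N := by
    rw [show N ^ 4 = N * (N * (N * N)) by simp [pow_succ, mul_assoc], hch, Matrix.mul_add, Matrix.mul_sub,
      Matrix.mul_smul, Matrix.mul_smul, mul_one, show N * (N * N) = N ^ 3 by simp [pow_succ, mul_assoc]]
  have e3 : τ = τ * τ - m * τ + 3 := by
    have := congrArg Matrix.trace hch
    rw [show N * (N * N) = N ^ 3 by simp [pow_succ, mul_assoc], t3, Matrix.trace_add, Matrix.trace_sub,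
      Matrix.trace_smul, Matrix.trace_smul, Matrix.trace_one, t2, ← hτ, smul_eq_mul, smul_eq_mul,
      Fintype.card_fin] at this
    exact_mod_cast this
  have e4 : τ = τ * τ - m * τ + τ := by
    have := congrArg Matrix.trace h4
    rwa [t4, Matrix.trace_add, Matrix.trace_sub, Matrix.trace_smul, Matrix.trace_smul, t3, t2, ← hτ,
      smul_eq_mul, smul_eq_mul] at this
  have hτ3 : τ = 3 := by linear_combination e3 - e4
  have hm3 : m = 3 := by rw [hm, hτ3]; field_simp; ring
  rw [← hτ, hτ3, hm3] at hch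
  have hnil : (N - 1) ^ 3 = 0 := by
    have e : (N - 1) ^ 3 = N * (N * N) - (3 : F) • (N * N) + (3 : F) • N - 1 := by
      rw [show (3 : F) = ((3 : ℕ) : F) by norm_num, Nat.cast_smul_eq_nsmul, Nat.cast_smul_eq_nsmul]
      noncomm_ring
    rw [e, hch]
    abel
  haveI : CharP Mn p := Matrix.charP p
  have hNp : N ^ p = 1 := by
    have h0 : (N - 1) ^ p = 0 := by
      obtain ⟨k, rfl⟩ := Nat.exists_eq_add_of_le (show 3 ≤ p by omega)
      rw [pow_add, hnil, zero_mul]
    rw [← sub_add_cancel N 1, add_pow_char_of_commute _ (Commute.one_right _), h0, one_pow, zero_add]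
  have hco : Nat.Coprime 5 p := (Nat.coprime_primes (by norm_num) Fact.out).2 (by omega)
  have hN1 : A = 1 := by
    refine orderOf_eq_one_iff.1 (Nat.eq_one_of_dvd_coprimes hco (orderOf_dvd_of_pow_eq_one hA5)
      (orderOf_dvd_of_pow_eq_one (Subtype.ext ?_)))
    rw [Matrix.SpecialLinearGroup.coe_pow, Matrix.SpecialLinearGroup.coe_one]
    exact hNp
  rw [hN1, map_one]

end CfsgLib.MaxSub.SLThree.Hess
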