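/-
An overgroup with non-soluble involution centraliser contradicts the Hessian configuration.
-/
import Cfsg.Agent.Lib.MaxSub.SLThree.Hess.Geo
import Cfsg.Agent.Lib.MaxSub.SLThree.Hess.Dichot
import Cfsg.Agent.Lib.PSLThreeInvolution
import Cfsg.Agent.Lib.MaxSub.Monomial.Basic

set_option autoImplicit false
set_option maxHeartbeats 800000
set_option linter.unusedSectionVars false

namespace CfsgLib.MaxSub.SLThree.Hess

open Matrix CfsgLib.PSLThree CfsgLib.SLCentre CfsgLib.PSLn
open scoped commutatorElement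

variable {F : Type*} [Field F] [Fintype F]

local notation "SL" => Matrix.SpecialLinearGroup (Fin 3) F
local notation "Mn" => Matrix (Fin 3) (Fin 3) F
local notation "P3" => Matrix.ProjectiveSpecialLinearGroup (Fin 3) F
local notation "G2" => GL (Fin 2) F

/-- Lift of `GL₂` to the centraliser, in a frame. -/
def embSL (P : GL (Fin 3) F) (A : GL (Fin 2) F) : Matrix.SpecialLinearGroup (Fin 3) F :=
  ⟨P.1 * emb A.1 * (P⁻¹).1, by
    rw [Matrix.det_units_conj, emb_det (Matrix.GeneralLinearGroup.det_ne_zero A)]⟩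

/-- The map onto the centraliser. -/
def Φ (P : GL (Fin 3) F) : GL (Fin 2) F →* Matrix.ProjectiveSpecialLinearGroup (Fin 3) F :=
  MonoidHom.mk' (fun A => mk (embSL P A)) fun A B => by
    rw [← map_mul]
    refine mk_congr ?_
    show P.1 * emb (A * B).1 * (P⁻¹).1 = P.1 * emb A.1 * (P⁻¹).1 * (P.1 * emb B.1 * (P⁻¹).1)
    rw [Units.val_mul, emb_mul]
    simp only [mul_assoc, Units.inv_mul_cancel_left]

/-- The frame of the standard involution. -/
structure IsFrame (P : GL (Fin 3) F) : Prop where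
  eq : (Tm : Matrix (Fin 3) (Fin 3) F) = P.1 * Matrix.diagonal dvec * (P⁻¹).1
  two : (2 : F) ≠ 0

variable {P : GL (Fin 3) F}

theorem emb_smul {a : F} :
    emb (a • (1 : Matrix (Fin 2) (Fin 2) F)) = Matrix.diagonal ![a, a, (a * a)⁻¹] := by
  ext i j
  fin_cases i <;> fin_cases j <;> simp [emb, Matrix.det_fin_two, sq]

theorem Φ_comm (hP : IsFrame P) (A : G2) : Φ P A * pt = pt * Φ P A := by
  show mk (embSL P A) * mk sT = mk sT * mk (embSL P A)
  rw [← map_mul, ← map_mul]
  refine mk_congr ?_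
  show P.1 * emb A.1 * (P⁻¹).1 * Tm = Tm * (P.1 * emb A.1 * (P⁻¹).1)
  rw [hP.eq]
  simp only [mul_assoc, Units.inv_mul_cancel_left]
  rw [← mul_assoc (emb A.1), emb_comm, mul_assoc]

theorem Φ_surj (hP : IsFrame P) {a : P3} (ha : a * pt = pt * a) : ∃ A, Φ P A = a := by
  obtain ⟨g, rfl⟩ := mk_surj a
  have hgT : Tm * g.1 = g.1 * Tm := invol_comm (D := sT) Tm_sq ha.symm
  set H := (P⁻¹).1 * g.1 * P.1 with hH
  have hz : ∀ i j, (dvec i - dvec j : F) * H i j = 0 := fun i j => frame_entries hP.eq hgT i j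
  have hne : (1 : F) - -1 ≠ 0 := fun h => hP.two (by linear_combination h)
  have hne' : (-1 : F) - 1 ≠ 0 := fun h => hP.two (by linear_combination -h)
  have e02 : H 0 2 = 0 := (mul_eq_zero.mp (hz 0 2)).resolve_left (by simpa [dvec] using hne')
  have e12 : H 1 2 = 0 := (mul_eq_zero.mp (hz 1 2)).resolve_left (by simpa [dvec] using hne')
  have e20 : H 2 0 = 0 := (mul_eq_zero.mp (hz 2 0)).resolve_left (by simpa [dvec] using hne)
  have e21 : H 2 1 = 0 := (mul_eq_zero.mp (hz 2 1)).resolve_left (by simpa [dvec] using hne)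
  have hdetH : H.det = 1 := by rw [hH, Matrix.det_units_conj', g.2]
  let A : Matrix (Fin 2) (Fin 2) F := !![H 0 0, H 0 1; H 1 0, H 1 1]
  have hA : A.det * H 2 2 = 1 := by
    rw [← hdetH, det_fin_three, det_fin_two, e02, e12, e20, e21]
    simp [A]
    ring
  have hA0 : A.det ≠ 0 := fun h => by rw [h, zero_mul] at hA; exact zero_ne_one hA
  refine ⟨Matrix.GeneralLinearGroup.mkOfDetNeZero A hA0, mk_congr ?_⟩
  show P.1 * emb A * (P⁻¹).1 = g.1
  have hemb : emb A = H := by
    ext i j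
    fin_cases i <;> fin_cases j <;> simp [emb, A, e02, e12, e20, e21]
    exact inv_eq_of_mul_eq_one_right (by simpa [det_fin_two, A] using hA)
  rw [hemb, hH]
  simp only [mul_assoc, Units.mul_inv_cancel_left, Units.mul_inv, mul_one]

theorem Φ_ker {A : G2} (h : Φ P A = 1) : ∃ a : F, A.1 = a • (1 : Matrix (Fin 2) (Fin 2) F) := by
  obtain ⟨c, -, hc⟩ := mk_eq_one.1 h
  replace hc : P.1 * emb A.1 * (P⁻¹).1 = c • (1 : Mn) := hc
  have he : emb A.1 = c • (1 : Mn) := by
    have := congrArg (fun M => (P⁻¹).1 * M * P.1) hc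
    simpa only [mul_assoc, Units.inv_mul_cancel_left, Units.inv_mul, mul_one, Matrix.mul_smul,
      Matrix.smul_mul, one_mul] using this
  refine ⟨c, ?_⟩
  ext i j
  fin_cases i <;> fin_cases j
  · simpa [emb] using congrFun (congrFun he 0) 0
  · simpa [emb] using congrFun (congrFun he 0) 1
  · simpa [emb] using congrFun (congrFun he 1) 0
  · simpa [emb] using congrFun (congrFun he 1) 1

theorem Φ_scalar_central (hP : IsFrame P) {A : G2} {a : F}
    (hA : A.1 = a • (1 : Matrix (Fin 2) (Fin 2) F)) {b : P3} (hb : b * pt = pt * b) :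
    Φ P A * b = b * Φ P A := by
  obtain ⟨B, rfl⟩ := Φ_surj hP hb
  rw [← map_mul, ← map_mul]
  congr 1
  exact Units.ext (by rw [Units.val_mul, Units.val_mul, hA, Matrix.smul_mul, one_mul, Matrix.mul_smul, mul_one])

theorem scalar_cases {A : G2} {a : F} (hP : IsFrame P)
    (hA : A.1 = a • (1 : Matrix (Fin 2) (Fin 2) F)) (h : Φ P A * Φ P A = 1) : Φ P A = 1 ∨ Φ P A = pt := by
  have ha : a ≠ 0 := fun e => Matrix.GeneralLinearGroup.det_ne_zero A (by rw [hA, e, zero_smul, Matrix.det_zero])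
  rw [← map_mul] at h
  obtain ⟨c, hc, he⟩ := mk_eq_one.1 h
  replace he : P.1 * emb (A * A).1 * (P⁻¹).1 = c • (1 : Mn) := he
  have he' : emb (A * A).1 = c • (1 : Mn) := by
    have := congrArg (fun M => (P⁻¹).1 * M * P.1) he
    simpa only [mul_assoc, Units.inv_mul_cancel_left, Units.inv_mul, mul_one, Matrix.mul_smul,
      Matrix.smul_mul, one_mul] using this
  rw [Units.val_mul, hA, Matrix.smul_mul, one_mul, smul_smul, emb_smul] at he'
  have e0 : a * a = c := by simpa using congrFun (congrFun he' 0) 0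
  have e2 : (a * a * (a * a))⁻¹ = c := by simpa using congrFun (congrFun he' 2) 2
  have h6 : (a * a * a) * (a * a * a) = 1 := by
    linear_combination hc + ((a * a) ^ 2 + a * a * c + c ^ 2) * e0
  rcases mul_self_eq_one_iff.1 h6 with e | e
  · left
    refine mk_eq_one.2 ⟨a, by linear_combination e, ?_⟩
    show P.1 * emb A.1 * (P⁻¹).1 = a • (1 : Mn)
    rw [hA, emb_smul, show (a * a)⁻¹ = a from inv_eq_of_mul_eq_one_right e,
      show (![a, a, a] : Fin 3 → F) = fun _ => a from by funext i; fin_cases i <;> rfl,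
      ← Matrix.smul_one_eq_diagonal, Matrix.mul_smul, mul_one, Matrix.smul_mul, Units.mul_inv]
  · right
    refine mk_smul (c := -a) (by linear_combination -e) ?_
    show P.1 * emb A.1 * (P⁻¹).1 = (-a) • Tm
    rw [hA, emb_smul, hP.eq, ← Matrix.smul_mul, ← Matrix.mul_smul, ← Matrix.diagonal_smul]
    congr 2
    rw [show (a * a)⁻¹ = -a from inv_eq_of_mul_eq_one_right (by linear_combination -e)]
    congr 1
    funext i
    fin_cases i <;> simp [dvec]

theorem axis_scalar (hP : IsFrame P) {A : G2} {a : F}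
    (hA : A.1 = a • (1 : Matrix (Fin 2) (Fin 2) F)) :
    (embSL P A).1 * (1 - Tm) = a • (1 - (Tm : Mn)) := by
  show P.1 * emb A.1 * (P⁻¹).1 * (1 - Tm) = _
  rw [hP.eq, hA, emb_smul]
  have e : (Matrix.diagonal ![a, a, (a * a)⁻¹] : Mn) * (1 - Matrix.diagonal dvec) =
      a • (1 - Matrix.diagonal dvec) := by
    rw [← Matrix.diagonal_one, Matrix.diagonal_sub, Matrix.diagonal_mul_diagonal, ← Matrix.diagonal_smul]
    congr 1
    funext i
    fin_cases i <;> simp [dvec]
  have h1 : (1 : Mn) - P.1 * Matrix.diagonal dvec * (P⁻¹).1 = P.1 * (1 - Matrix.diagonal dvec) * (P⁻¹).1 := by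
    rw [Matrix.mul_sub, mul_one, Matrix.sub_mul, Units.mul_inv]
  rw [h1, ← Matrix.smul_mul, ← Matrix.mul_smul, ← e]
  simp only [mul_assoc, Units.inv_mul_cancel_left]

/-- The configuration to be refuted. -/
structure Config {ω : F} (h : Root ω) (L : Subgroup P3) : Prop where
  mem_E : E h ≤ L
  mem_t : (pt : P3) ∈ L
  ne_top : L ≠ ⊤
  stable : ∀ w ∈ Subgroup.closure ({pf h, pg h} : Set P3), ∀ a ∈ L, w * a * w⁻¹ ∈ L
  one_class : ∀ d ∈ L, d * d = 1 → d ≠ 1 → ∃ a ∈ L, a * pt * a⁻¹ = d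
  four : ∃ d ∈ L, d * pt = pt * d ∧ d * d = 1 ∧ d ≠ 1 ∧ d ≠ pt
  derived : ∃ u ∈ ⁅L ⊓ Subgroup.centralizer {pt}, L ⊓ Subgroup.centralizer {pt}⁆,
    ∃ v ∈ ⁅L ⊓ Subgroup.centralizer {pt}, L ⊓ Subgroup.centralizer {pt}⁆,
    ∃ w ∈ L ⊓ Subgroup.centralizer {pt}, ⁅u, v⁆ * w ≠ w * ⁅u, v⁆
  three : ∃ g ∈ L, g * pt = pt * g ∧ g ≠ 1 ∧ g ^ 3 = 1

/-- The elements of the centraliser containing `SL(2,p)` force everything. -/
theorem not_full {ω : F} {h : Root ω} {L : Subgroup P3} (hL : Config h L) (hP : IsFrame P) :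
    ¬ ∀ A : Matrix.SpecialLinearGroup (Fin 2) F, Matrix.SpecialLinearGroup.toGL A ∈ L.comap (Φ P) := by
  intro hfull
  obtain ⟨d, hdL, hdt, hd2, hd1, hdne⟩ := hL.four
  obtain ⟨a, haL, had⟩ := hL.one_class d hdL hd2 hd1
  obtain ⟨A₀, rfl⟩ := mk_surj a
  let ψ : SL →* SL :=
    MonoidHom.mk' (fun y => ⟨P.1 * y.1 * (P⁻¹).1, by rw [Matrix.det_units_conj, y.2]⟩) fun y z =>
      Subtype.ext (by
        show P.1 * (y.1 * z.1) * (P⁻¹).1 = P.1 * y.1 * (P⁻¹).1 * (P.1 * z.1 * (P⁻¹).1)
        simp only [mul_assoc, Units.inv_mul_cancel_left])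
  let back : SL → SL := fun z => ⟨(P⁻¹).1 * z.1 * P.1, by rw [Matrix.det_units_conj', z.2]⟩
  have hback : ∀ z, ψ (back z) = z := fun z => Subtype.ext (by
    show P.1 * ((P⁻¹).1 * z.1 * P.1) * (P⁻¹).1 = z.1
    simp only [mul_assoc, Units.mul_inv_cancel_left, Units.mul_inv, mul_one])
  set K := (L.comap mk).comap ψ with hK
  refine hL.ne_top (top_le_iff.1 fun z _ => ?_)
  suffices htop : K = ⊤ by
    obtain ⟨Z, rfl⟩ := mk_surj z
    have : back Z ∈ K := by rw [htop]; exact Subgroup.mem_top _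
    change mk (ψ (back Z)) ∈ L at this
    rwa [hback] at this
  -- the transvections in the first plane
  have hblock : ∀ (u φ : Fin 3 → F), u 2 = 0 → φ 2 = 0 → φ ⬝ᵥ u = 0 → HasTv K u φ := by
    intro u φ hu hφ he
    refine ⟨he, ?_⟩
    have he2 : φ 0 * u 0 + φ 1 * u 1 = 0 := by
      have := he
      simp [dotProduct, Fin.sum_univ_three, hu, hφ] at this
      exact this
    let S : Matrix.SpecialLinearGroup (Fin 2) F :=
      ⟨!![1 + u 0 * φ 0, u 0 * φ 1; u 1 * φ 0, 1 + u 1 * φ 1], by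
        rw [Matrix.det_fin_two]; simp; linear_combination he2⟩
    show mk (ψ (tv u φ he)) ∈ L
    have hm : Φ P (Matrix.SpecialLinearGroup.toGL S) ∈ L := hfull S
    refine (?_ : mk (ψ (tv u φ he)) = Φ P (Matrix.SpecialLinearGroup.toGL S)) ▸ hm
    refine mk_congr ?_
    show P.1 * (tv u φ he).1 * (P⁻¹).1 = P.1 * emb S.1 * (P⁻¹).1
    congr 2
    rw [coe_tv]
    ext i j
    fin_cases i <;> fin_cases j <;>
      simp [emb, S, Matrix.vecMulVec_apply, hu, hφ, Matrix.one_apply, Matrix.det_fin_two]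
    all_goals linear_combination he2
  set M := back A₀ with hM
  have hMK : M ∈ K := by show mk (ψ (back A₀)) ∈ L; rw [hback]; exact haL
  set D0 : Mn := Matrix.diagonal dvec with hD0
  have hD0sq : D0 * D0 = 1 := by
    rw [hD0, Matrix.diagonal_mul_diagonal, ← Matrix.diagonal_one]; congr 1; funext i; fin_cases i <;> simp [dvec]
  set D' := M.1 * D0 * (M⁻¹).1 with hD'
  have hMi : (M⁻¹).1 * M.1 = 1 := congrArg Subtype.val (inv_mul_cancel M)
  have hMi' : M.1 * (M⁻¹).1 = 1 := congrArg Subtype.val (mul_inv_cancel M)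
  let D0s : SL := ⟨D0, by rw [hD0, Matrix.det_diagonal, Fin.prod_univ_three]; simp [dvec]⟩
  have hψ0 : ψ D0s = sT := Subtype.ext (show P.1 * D0 * (P⁻¹).1 = Tm from hP.eq.symm)
  have hψ' : mk (ψ (M * D0s * M⁻¹)) = d := by
    rw [map_mul, map_mul, map_inv, map_mul, map_mul, map_inv, hM, hback, hψ0]; exact had
  have hD'sq : D' * D' = 1 := by
    rw [hD', show M.1 * D0 * (M⁻¹).1 * (M.1 * D0 * (M⁻¹).1) = M.1 * (D0 * ((M⁻¹).1 * M.1) * D0) * (M⁻¹).1 by
      simp only [mul_assoc], hMi, mul_one, hD0sq, mul_one, hMi']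
  have hcomm : D0 * D' = D' * D0 := by
    have e : (ψ D0s).1 * (ψ (M * D0s * M⁻¹)).1 = (ψ (M * D0s * M⁻¹)).1 * (ψ D0s).1 := by
      refine invol_comm ?_ ?_
      · rw [hψ0]; exact Tm_sq
      · rw [hψ', hψ0]; exact hdt.symm
    change P.1 * D0 * (P⁻¹).1 * (P.1 * D' * (P⁻¹).1) = P.1 * D' * (P⁻¹).1 * (P.1 * D0 * (P⁻¹).1) at e
    have := congrArg (fun X => (P⁻¹).1 * X * P.1) e
    simpa only [mul_assoc, Units.inv_mul_cancel_left, Units.inv_mul, mul_one] using this
  set e2 : Fin 3 → F := Pi.single 2 1 with he2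
  set c := M.1 *ᵥ e2 with hc
  set ψr : Fin 3 → F := e2 ᵥ* (M⁻¹).1 with hψr
  have hD0e2 : D0 *ᵥ e2 = e2 := by
    rw [hD0, he2]; funext i; rw [Matrix.mulVec_diagonal]; fin_cases i <;> simp [dvec]
  have hD'c : D' *ᵥ c = c := by
    rw [hc, hD', Matrix.mulVec_mulVec, mul_assoc, hMi, mul_one, ← Matrix.mulVec_mulVec, hD0e2]
  have hfix : ∀ x, D' *ᵥ x = x → ∃ k : F, x = k • c := by
    intro x hx
    have hy : D0 *ᵥ ((M⁻¹).1 *ᵥ x) = (M⁻¹).1 *ᵥ x := by
      conv_rhs => rw [← hx]
      rw [hD', Matrix.mulVec_mulVec, Matrix.mulVec_mulVec]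
      congr 1
      rw [← mul_assoc, ← mul_assoc, hMi, one_mul]
    refine ⟨((M⁻¹).1 *ᵥ x) 2, ?_⟩
    have hy' : (M⁻¹).1 *ᵥ x = ((M⁻¹).1 *ᵥ x) 2 • e2 := by
      have hne : (-1 : F) ≠ 1 := fun e => hP.two (by linear_combination -e)
      funext i
      have := congrFun hy i
      rw [hD0, Matrix.mulVec_diagonal] at this
      rw [he2, Pi.smul_apply, smul_eq_mul]
      fin_cases i
      · simp [dvec] at this ⊢
        exact (mul_eq_zero.1 (show (2 : F) * ((M⁻¹).1 *ᵥ x) 0 = 0 by linear_combination -this)).resolve_left hP.two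
      · simp [dvec] at this ⊢
        exact (mul_eq_zero.1 (show (2 : F) * ((M⁻¹).1 *ᵥ x) 1 = 0 by linear_combination -this)).resolve_left hP.two
      · simp
    rw [hc, ← Matrix.mulVec_smul, ← hy', Matrix.mulVec_mulVec, hMi', Matrix.one_mulVec]
  -- the distinguished vector is in the other axis
  have hblk : ∀ i : Fin 3, i ≠ 2 → D' i 2 = 0 ∧ D' 2 i = 0 := by
    intro i hi
    have a1 := congrFun (congrFun hcomm i) 2
    have a2 := congrFun (congrFun hcomm 2) i
    rw [hD0, Matrix.diagonal_mul, Matrix.mul_diagonal] at a1 a2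
    have hd : dvec i = (-1 : F) := by fin_cases i <;> first | exact absurd rfl hi | rfl
    rw [hd, show dvec 2 = (1 : F) from rfl] at a1 a2
    exact ⟨(mul_eq_zero.1 (show (2 : F) * D' i 2 = 0 by linear_combination -a1)).resolve_left hP.two,
      (mul_eq_zero.1 (show (2 : F) * D' 2 i = 0 by linear_combination a2)).resolve_left hP.two⟩
  have h22 : D' 2 2 = -1 := by
    have hsq := congrFun (congrFun hD'sq 2) 2
    rw [Matrix.mul_apply, Fin.sum_univ_three, (hblk 0 (by decide)).2, (hblk 1 (by decide)).2, zero_mul,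
      zero_mul, zero_add, zero_add, Matrix.one_apply_eq] at hsq
    rcases mul_self_eq_one_iff.1 hsq with e | e
    · exfalso
      have htrD' : D'.trace = -1 := by
        rw [hD', Matrix.trace_mul_comm, ← mul_assoc, hMi, one_mul, hD0, Matrix.trace_diagonal,
          Fin.sum_univ_three]
        simp [dvec]
      have hprod : (D0 * D').trace = -1 := by
        have hsq' : D0 * D' * (D0 * D') = 1 := by
          rw [mul_assoc, ← mul_assoc D', ← hcomm, mul_assoc, hD'sq, mul_one, hD0sq]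
        obtain ⟨Q, hQ⟩ := exists_diag_form hP.two (T := D0 * D') hsq'
          (by rw [Matrix.det_mul, show D0.det = 1 from D0s.2, one_mul]; exact (M * D0s * M⁻¹).2)
          (fun e1 => hdne (by
            have hDD : D' = D0 := by
              calc D' = (D0 * D0) * D' := by rw [hD0sq, one_mul]
                _ = D0 := by rw [mul_assoc, e1, mul_one]
            rw [← hψ']
            show mk (ψ (M * D0s * M⁻¹)) = mk sT
            rw [← hψ0]
            refine mk_congr ?_
            show P.1 * D' * (P⁻¹).1 = P.1 * D0 * (P⁻¹).1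
            rw [hDD]))
        rw [hQ, Matrix.trace_units_conj, Matrix.trace_diagonal, Fin.sum_univ_three]
        simp [dvec]
      rw [Matrix.trace_fin_three] at htrD' hprod
      simp only [hD0, Matrix.diagonal_mul, e] at hprod htrD'
      simp [dvec] at hprod
      exact mul_ne_zero hP.two hP.two (by linear_combination hprod + htrD')
    · exact e
  have hc2 : c 2 = 0 := by
    have := congrFun hD'c 2
    rw [Matrix.mulVec, dotProduct, Fin.sum_univ_three, (hblk 0 (by decide)).2, (hblk 1 (by decide)).2, h22] at this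
    exact (mul_eq_zero.1 (show (2 : F) * c 2 = 0 by linear_combination -this)).resolve_left hP.two
  have hψe2 : ψr 2 = 0 := by
    have hy : D' *ᵥ e2 = -e2 := by
      funext i
      rw [he2, Matrix.mulVec_single_one, Matrix.col_apply]
      by_cases hi : i = 2
      · subst hi; simp [h22]
      · rw [(hblk i hi).1]; simp [hi]
    have h1 : D0 *ᵥ ((M⁻¹).1 *ᵥ e2) = -((M⁻¹).1 *ᵥ e2) := by
      rw [← Matrix.mulVec_neg, ← hy, hD', Matrix.mulVec_mulVec, Matrix.mulVec_mulVec]
      congr 1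
      rw [← mul_assoc, ← mul_assoc, hMi, one_mul]
    have h2 := congrFun h1 2
    rw [hD0, Matrix.mulVec_diagonal, Pi.neg_apply] at h2
    have h3 : ((M⁻¹).1 *ᵥ e2) 2 = 0 :=
      (mul_eq_zero.1 (show (2 : F) * ((M⁻¹).1 *ᵥ e2) 2 = 0 by
        simp [dvec] at h2; linear_combination h2)).resolve_left hP.two
    rw [hψr, he2, Matrix.single_one_vecMul, Matrix.row_apply]
    rwa [he2, Matrix.mulVec_single_one, Matrix.col_apply] at h3
  have hψc : ψr ⬝ᵥ c = 1 := by
    rw [hψr, ← dotProduct_mulVec, hc, Matrix.mulVec_mulVec, hMi, Matrix.one_mulVec, he2]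
    simp [dotProduct, Fin.sum_univ_three]
  set w : Fin 3 → F := ![ψr 1, -ψr 0, 0] with hw
  have hψw : ψr ⬝ᵥ w = 0 := by simp [hw, dotProduct, Fin.sum_univ_three]; ring
  have hw2 : w 2 = 0 := rfl
  set φ1 : Fin 3 → F := ![w 1, -w 0, 0] with hφ1
  have h1c : φ1 ⬝ᵥ c = -1 := by
    rw [← hψc]
    simp [hφ1, hw, dotProduct, Fin.sum_univ_three, hψe2]
    ring
  have hw0 : w ≠ 0 := fun e => by
    rw [hφ1, e] at h1c
    simp [dotProduct, Fin.sum_univ_three] at h1c
  have hfullw : Full K w := by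
    intro φ hφ
    set k := φ ⬝ᵥ c
    have e1 : HasTv K w (-k • φ1) := hblock _ _ hw2 (by simp [hφ1]) (by
      rw [smul_dotProduct, hφ1]; simp [dotProduct, Fin.sum_univ_three, hw2]; ring_nf; simp)
    set φ2 := φ + k • φ1 with hφ2
    have h2c : φ2 ⬝ᵥ c = 0 := by rw [hφ2, add_dotProduct, smul_dotProduct, h1c, smul_eq_mul]; ring
    have h2w : φ2 ⬝ᵥ w = 0 := by
      rw [hφ2, add_dotProduct, hφ, smul_dotProduct, hφ1]; simp [dotProduct, Fin.sum_univ_three, hw2]; ring_nf; simp
    have e2' : HasTv K ((M⁻¹).1 *ᵥ w) (φ2 ᵥ* M.1) := by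
      refine hblock _ _ ?_ ?_ ?_
      · have hh : e2 ⬝ᵥ ((M⁻¹).1 *ᵥ w) = 0 := by rw [dotProduct_mulVec]; exact hψw
        simpa [he2, dotProduct, Fin.sum_univ_three] using hh
      · have hh : (φ2 ᵥ* M.1) ⬝ᵥ e2 = 0 := by rw [← dotProduct_mulVec]; exact h2c
        simpa [he2, dotProduct, Fin.sum_univ_three] using hh
      · rw [← dotProduct_mulVec, Matrix.mulVec_mulVec, hMi', Matrix.one_mulVec, h2w]
    have e3 := HasTv.conj hMK e2'
    rw [Matrix.mulVec_mulVec, hMi', Matrix.one_mulVec] at e3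
    have := e1.add e3
    rwa [hφ2, neg_smul, neg_add_cancel_comm_assoc] at this
  have h01 : Full K (Pi.single 0 1) ∧ Full K (Pi.single 1 1) := by
    have hr : ∀ (i j : Fin 3), i ≠ j → i ≠ 2 → j ≠ 2 → ∀ x, Full K x → Full K (x + x j • Pi.single i 1) := by
      intro i j hij hi hj x hx
      obtain ⟨e, m⟩ := hblock (Pi.single i 1) (Pi.single j 1) (by simp [hi.symm]) (by simp [hj.symm])
        (by simp [Pi.single_eq_of_ne hij.symm, Pi.single_eq_of_ne hij])
      have := full_conj m hx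
      rwa [tv_mulVec, single_dotProduct, one_mul] at this
    have hsub : ∀ (i j : Fin 3), i ≠ j → i ≠ 2 → j ≠ 2 → ∀ x, Full K x → x j ≠ 0 → Full K (Pi.single i 1) := by
      intro i j hij hi hj x hx hxj
      have h1 := hr i j hij hi hj x hx
      have h2 : (x + x j • Pi.single i 1) - x ∈ fullSubmodule K := Submodule.sub_mem _ h1 hx
      rw [add_sub_cancel_left] at h2
      have h3 := (fullSubmodule K).smul_mem (x j)⁻¹ h2
      rw [smul_smul, inv_mul_cancel₀ hxj, one_smul] at h3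
      exact h3
    by_cases hw1 : w 1 = 0
    · have hw00 : w 0 ≠ 0 := fun e => hw0 (by funext i; fin_cases i <;> assumption)
      have h1 := hsub 1 0 (by decide) (by decide) (by decide) w hfullw hw00
      exact ⟨hsub 0 1 (by decide) (by decide) (by decide) _ h1 (by simp), h1⟩
    · have h0 := hsub 0 1 (by decide) (by decide) (by decide) w hfullw hw1
      exact ⟨h0, hsub 1 0 (by decide) (by decide) (by decide) _ h0 (by simp)⟩
  refine eq_top_of_full (by norm_num) (eq_top_iff.2 fun x _ => ?_)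
  have hW : ∀ y : Fin 3 → F, y 2 = 0 → Full K y := fun y hy => by
    have := (fullSubmodule K).add_mem ((fullSubmodule K).smul_mem (y 0) h01.1)
      ((fullSubmodule K).smul_mem (y 1) h01.2)
    rwa [show y 0 • (Pi.single 0 1 : Fin 3 → F) + y 1 • Pi.single 1 1 = y by
      funext i; fin_cases i <;> simp [hy]] at this
  have he2full : Full K e2 := by
    have h3 : ((M⁻¹).1 *ᵥ e2) 2 = 0 := by
      rw [he2, Matrix.mulVec_single_one, Matrix.col_apply]
      simpa [hψr, he2, Matrix.single_one_vecMul] using hψe2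
    have := full_conj hMK (hW _ h3)
    rwa [Matrix.mulVec_mulVec, hMi', Matrix.one_mulVec] at this
  have := (fullSubmodule K).add_mem (hW (x - x 2 • e2) (by simp [he2])) ((fullSubmodule K).smul_mem (x 2) he2full)
  rwa [sub_add_cancel] at this

end CfsgLib.MaxSub.SLThree.Hess
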