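/-
A subgroup with non-soluble involution centralisers does not contain the Hessian configuration.
-/
import Cfsg.Agent.Lib.MaxSub.SLThree.Hess.Frame
import Mathlib.GroupTheory.Nilpotent
import Mathlib.GroupTheory.Sylow
import Mathlib.Algebra.Group.TypeTags.Basic
import Mathlib.Tactic.Abel

set_option autoImplicit false
set_option maxHeartbeats 800000
set_option linter.unusedSectionVars false

namespace CfsgLib.MaxSub.SLThree.Hess

open Matrix CfsgLib.PSLThree CfsgLib.SLCentre CfsgLib.PSLn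
open scoped commutatorElement

variable {F : Type*} [Field F] [Fintype F] {ω : F}

local notation "SL" => Matrix.SpecialLinearGroup (Fin 3) F
local notation "Mn" => Matrix (Fin 3) (Fin 3) F
local notation "P3" => Matrix.ProjectiveSpecialLinearGroup (Fin 3) F
local notation "G2" => GL (Fin 2) F

theorem exists_isFrame (h2 : (2 : F) ≠ 0) : ∃ P : GL (Fin 3) F, IsFrame P := by
  have hne : (Tm : Mn) ≠ 1 := fun e => by
    have := congrFun (congrFun e 1) 2
    simp [Tm] at this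
  obtain ⟨P, hP⟩ := exists_diag_form h2 (T := (Tm : Mn)) Tm_sq det_Tm hne
  exact ⟨P, hP, h2⟩

/-- Lifts of involutions that square to one are unique. -/
theorem lift_unique {A B : SL} (h : mk A = (mk B : P3)) (hA : A.1 * A.1 = 1) (hB : B.1 * B.1 = 1) :
    A.1 = B.1 := by
  obtain ⟨c, hc, hcB⟩ := mk_eq_iff.1 h
  rw [hcB, Matrix.smul_mul, Matrix.mul_smul, hA, smul_smul] at hB
  have hc2 : c * c = 1 := eq_one_of_smul one_ne_zero hB
  rw [hcB, show c = 1 by linear_combination hc - c * hc2, one_smul]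

theorem px_ne_one (h : Root ω) : (px h : P3) ≠ 1 := fun e => by
  obtain ⟨c, -, hc⟩ := mk_eq_one.1 e
  have e0 := congrFun (congrFun hc 0) 0
  have e1 := congrFun (congrFun hc 1) 1
  simp [sX, Xm] at e0 e1
  exact h.ne_one (e1.trans e0.symm)

theorem comm_pt_of_mem (h : Root ω) {w : P3} (hw : w ∈ Subgroup.closure ({pf h, pg h} : Set P3)) :
    w * pt = pt * w := by
  induction hw using Subgroup.closure_induction with
  | mem x hx =>
    rcases hx with rfl | rfl
    · rw [← pf_sq h]; group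
    · rw [← pg_sq h]; group
  | one => rw [one_mul, mul_one]
  | mul x y _ _ hx hy => rw [mul_assoc, hy, ← mul_assoc, hx, mul_assoc]
  | inv x _ hx => exact (Commute.inv_left hx).eq

variable {p : ℕ} [Fact p.Prime]
variable {P : GL (Fin 3) F} {h : Root ω}
variable {L : Subgroup (Matrix.ProjectiveSpecialLinearGroup (Fin 3) F)}
variable
  {ι : GL (Fin 2) F →* Matrix.ProjectiveSpecialLinearGroup (Fin 2) (KK p)}

/-- In a nice centraliser an element of order three centralising two involutions acts as a scalar on an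
axis. -/
theorem axis (hL : Config h L) (hP : IsFrame P)
    (hι : ∀ A : GL (Fin 2) F, ι A = 1 ↔ ∃ a : F, A.1 = a • (1 : Matrix (Fin 2) (Fin 2) F))
    (hN : NiceThree ((L.comap (Φ P)).map ι)) {d e x : P3} (hdL : d ∈ L) (hd : d * d = 1) (hd1 : d ≠ 1)
    (heL : e ∈ L) (he : e * e = 1) (he1 : e ≠ 1) (hde : d * e = e * d) (hne : d ≠ e)
    (hxL : x ∈ L) (hx : x ^ 3 = 1) (hxd : x * d = d * x) (hxe : x * e = e * x)
    {X D : SL} (hX : mk X = x) (hDd : mk D = d) (hD : D.1 * D.1 = 1) :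
    ∃ a : F, X.1 * (1 - D.1) = a • (1 - D.1) := by
  obtain ⟨g, hgL, hgd⟩ := hL.one_class d hdL hd hd1
  have hd' : g⁻¹ * d * g = pt := by rw [← hgd]; group
  have conjc : ∀ y z : P3, y * z = z * y → (g⁻¹ * y * g) * (g⁻¹ * z * g) = (g⁻¹ * z * g) * (g⁻¹ * y * g) :=
    fun y z hyz => by
      calc (g⁻¹ * y * g) * (g⁻¹ * z * g) = g⁻¹ * (y * z) * g := by group
        _ = g⁻¹ * (z * y) * g := by rw [hyz]
        _ = _ := by group
  have hmem : ∀ y ∈ L, g⁻¹ * y * g ∈ L := fun y hy => mul_mem (mul_mem (inv_mem hgL) hy) hgL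
  have hxt : (g⁻¹ * x * g) * pt = pt * (g⁻¹ * x * g) := by have := conjc x d hxd; rwa [hd'] at this
  have het : (g⁻¹ * e * g) * pt = pt * (g⁻¹ * e * g) := by have := conjc e d hde.symm; rwa [hd'] at this
  obtain ⟨A, hA⟩ := Φ_surj hP hxt
  obtain ⟨B, hB⟩ := Φ_surj hP het
  have hAH : A ∈ L.comap (Φ P) := by show Φ P A ∈ L; rw [hA]; exact hmem x hxL
  have hBH : B ∈ L.comap (Φ P) := by show Φ P B ∈ L; rw [hB]; exact hmem e heL
  have hker : ∀ C : G2, Φ P C = 1 → ι C = 1 := fun C hC => (hι C).2 (Φ_ker hC)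
  have hA3 : ι A ^ 3 = 1 := by
    rw [← map_pow]
    refine hker _ ?_
    rw [map_pow, hA, pow_succ, pow_two]
    calc g⁻¹ * x * g * (g⁻¹ * x * g) * (g⁻¹ * x * g) = g⁻¹ * (x ^ 3) * g := by
          rw [pow_succ, pow_two]; group
      _ = 1 := by rw [hx]; group
  have hee : (g⁻¹ * e * g) * (g⁻¹ * e * g) = 1 := by
    calc (g⁻¹ * e * g) * (g⁻¹ * e * g) = g⁻¹ * (e * e) * g := by group
      _ = 1 := by rw [he]; group
  have hB2 : ι B ^ 2 = 1 := by
    rw [← map_pow]
    refine hker _ ?_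
    rw [map_pow, hB, pow_two, hee]
  have hAB : ι A * ι B = ι B * ι A := by
    rw [← commutatorElement_eq_one_iff_mul_comm, ← map_commutatorElement]
    refine hker _ ?_
    rw [map_commutatorElement, hA, hB, commutatorElement_eq_one_iff_mul_comm]
    exact conjc x e hxe
  rcases hN.1 _ ⟨A, hAH, rfl⟩ _ ⟨B, hBH, rfl⟩ hA3 hB2 hAB with h1 | h1
  · obtain ⟨a, ha⟩ := (hι A).1 h1
    obtain ⟨G, hG⟩ := mk_surj g
    have hax := axis_scalar hP ha
    -- transport back
    have hGi : (G⁻¹).1 * G.1 = 1 := congrArg Subtype.val (inv_mul_cancel G)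
    have hGi' : G.1 * (G⁻¹).1 = 1 := congrArg Subtype.val (mul_inv_cancel G)
    have hDG : D.1 = G.1 * Tm * (G⁻¹).1 := by
      refine lift_unique (A := D) (B := G * sT * G⁻¹) ?_ hD ?_
      · rw [hDd, map_mul, map_mul, map_inv, hG, ← hgd]; rfl
      · show G.1 * Tm * (G⁻¹).1 * (G.1 * Tm * (G⁻¹).1) = 1
        rw [show G.1 * Tm * (G⁻¹).1 * (G.1 * Tm * (G⁻¹).1) = G.1 * (Tm * ((G⁻¹).1 * G.1) * Tm) * (G⁻¹).1 by
          simp only [mul_assoc], hGi, mul_one, Tm_sq, mul_one, hGi']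
    obtain ⟨c, -, hc⟩ : ∃ c : F, c ^ 3 = 1 ∧ X.1 = c • (G * embSL P A * G⁻¹ : SL).1 := by
      refine mk_eq_iff.1 ?_
      rw [hX, map_mul, map_mul, map_inv, hG]
      show g * Φ P A * g⁻¹ = x
      rw [hA]; group
    refine ⟨c * a, ?_⟩
    rw [hc, val_mul, val_mul, hDG]
    have e1 : (1 : Mn) - G.1 * Tm * (G⁻¹).1 = G.1 * (1 - Tm) * (G⁻¹).1 := by
      rw [Matrix.mul_sub, mul_one, Matrix.sub_mul, hGi']
    rw [e1, Matrix.smul_mul,
      show G.1 * (embSL P A).1 * (G⁻¹).1 * (G.1 * (1 - Tm) * (G⁻¹).1) =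
        G.1 * ((embSL P A).1 * (((G⁻¹).1 * G.1) * (1 - Tm))) * (G⁻¹).1 by simp only [mul_assoc],
      hGi, one_mul, hax, Matrix.mul_smul, Matrix.smul_mul, smul_smul]
  · exfalso
    obtain ⟨b, hb⟩ := (hι B).1 h1
    rcases scalar_cases hP hb (by rw [hB, hee]) with h' | h' <;> rw [hB] at h'
    · exact he1 (by calc e = g * (g⁻¹ * e * g) * g⁻¹ := by group
        _ = 1 := by rw [h']; group)
    · exact hne (by
        rw [← hgd]
        calc g * pt * g⁻¹ = g * (g⁻¹ * e * g) * g⁻¹ := by rw [h']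
          _ = e := by group)

/-- No element of order three centralises a four-group. -/
theorem key (hL : Config h L) (hP : IsFrame P)
    (hι : ∀ A : GL (Fin 2) F, ι A = 1 ↔ ∃ a : F, A.1 = a • (1 : Matrix (Fin 2) (Fin 2) F))
    (hN : NiceThree ((L.comap (Φ P)).map ι)) {d e x : P3} (hdL : d ∈ L) (hd : d * d = 1) (hd1 : d ≠ 1)
    (heL : e ∈ L) (he : e * e = 1) (he1 : e ≠ 1) (hde : d * e = e * d) (hne : d ≠ e)
    (hxL : x ∈ L) (hx : x ^ 3 = 1) (hxd : x * d = d * x) (hxe : x * e = e * x) : x = 1 := by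
  obtain ⟨X, hX⟩ := mk_surj x
  obtain ⟨D, hDd, hD, -⟩ := exists_lift_invol hd hd1
  obtain ⟨E', hEe, hE, -⟩ := exists_lift_invol he he1
  obtain ⟨a, ha⟩ := axis hL hP hι hN hdL hd hd1 heL he he1 hde hne hxL hx hxd hxe hX hDd hD
  obtain ⟨b, hb⟩ := axis hL hP hι hN heL he he1 hdL hd hd1 hde.symm hne.symm hxL hx hxe hxd hX hEe hE
  have := scalar_of_axes hP.two hd hd1 he he1 hde hne hDd hD hEe hE ha hb
  rw [← hX]
  refine mk_eq_one.2 ⟨a, ?_, this⟩
  have hdet := X.2
  rwa [this, Matrix.det_smul, Matrix.det_one, mul_one, Fintype.card_fin] at hdet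

/-- No element of `E` centralises an involution of `L`. -/
theorem no_centralised (hL : Config h L) (hP : IsFrame P)
    (hι : ∀ A : GL (Fin 2) F, ι A = 1 ↔ ∃ a : F, A.1 = a • (1 : Matrix (Fin 2) (Fin 2) F))
    (hN : NiceThree ((L.comap (Φ P)).map ι)) {e d : P3} (he : e ∈ E h) (he1 : e ≠ 1) (hdL : d ∈ L)
    (hd : d * d = 1) (hd1 : d ≠ 1) (hed : e * d = d * e) : False := by
  obtain ⟨w, hw, hcase⟩ := exists_conj h he he1
  set d' := w⁻¹ * d * w with hd'def
  have hd'L : d' ∈ L := by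
    have := hL.stable w⁻¹ (inv_mem hw) d hdL
    rwa [inv_inv] at this
  have hd'2 : d' * d' = 1 := by
    rw [hd'def, show w⁻¹ * d * w * (w⁻¹ * d * w) = w⁻¹ * (d * d) * w by group, hd]; group
  have hd'1 : d' ≠ 1 := fun e0 => hd1 (by
    calc d = w * d' * w⁻¹ := by rw [hd'def]; group
      _ = 1 := by rw [e0]; group)
  have hcomm : ∀ f : P3, f = w * px h * w⁻¹ → f * d = d * f → d' * px h = px h * d' := fun f hf hfd => by
    have h1 : px h = w⁻¹ * f * w := by rw [hf]; group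
    rw [h1, hd'def, show w⁻¹ * d * w * (w⁻¹ * f * w) = w⁻¹ * (d * f) * w by group, ← hfd]
    group
  have hx' : d' * px h = px h * d' := by
    rcases hcase with h1 | h1
    · exact hcomm _ h1 hed
    · exact hcomm _ h1 ((show Commute e d from hed).inv_left).eq
  obtain ⟨hne, hc1, hc2⟩ := commX_invol h hd'2 hd'1 hx'
  have hy : (py : P3) ∈ L := hL.mem_E (py_mem h)
  refine px_ne_one h (key hL hP hι hN hd'L hd'2 hd'1 (mul_mem (mul_mem hy hd'L) (inv_mem hy)) ?_ ?_ hc1
    hne.symm (hL.mem_E (px_mem h)) (E_cube h (px_mem h)) hx'.symm hc2.symm)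
  · rw [show py * d' * py⁻¹ * (py * d' * py⁻¹) = py * (d' * d') * py⁻¹ by group, hd'2]; group
  · intro e0
    exact hd'1 (by calc d' = py⁻¹ * (py * d' * py⁻¹) * py := by group
        _ = 1 := by rw [e0]; group)

/-- The configuration does not exist. -/
theorem no_config [CharP F p] (hF : Fintype.card F = p) (hp : 5 < p) (hL : Config h L) : False := by
  classical
  have h2 : (2 : F) ≠ 0 := fun e => by
    have := (CharP.cast_eq_zero_iff F p 2).1 (by exact_mod_cast e)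
    have := Nat.le_of_dvd two_pos this
    omega
  obtain ⟨P, hP⟩ := exists_isFrame h2
  obtain ⟨ι, hι⟩ := exists_proj (F := F) (p := p) hF
  set H2 := L.comap (Φ P) with hH2
  have hker : ∀ C : G2, Φ P C = 1 → ι C = 1 := fun C hC => (hι C).2 (Φ_ker hC)
  have hC : H2.map (Φ P) = L ⊓ Subgroup.centralizer {pt} := by
    ext y
    constructor
    · rintro ⟨A, hA, rfl⟩
      exact ⟨hA, Subgroup.mem_centralizer_singleton_iff.2 (Φ_comm hP A)⟩
    · rintro ⟨hy, hyc⟩
      obtain ⟨A, rfl⟩ := Φ_surj hP (Subgroup.mem_centralizer_singleton_iff.1 hyc)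
      exact ⟨A, hy, rfl⟩
  -- the derived group is not commutative
  have hH : ∃ u ∈ ⁅H2, H2⁆, ∃ v ∈ ⁅H2, H2⁆, ι ⁅u, v⁆ ≠ 1 := by
    obtain ⟨u, hu, v, hv, w, hw, hne⟩ := hL.derived
    rw [← hC, ← Subgroup.map_commutator] at hu hv
    obtain ⟨u', hu', rfl⟩ := hu
    obtain ⟨v', hv', rfl⟩ := hv
    refine ⟨u', hu', v', hv', fun h1 => hne ?_⟩
    obtain ⟨a, ha⟩ := (hι _).1 h1
    rw [← map_commutatorElement]
    exact Φ_scalar_central hP ha (Subgroup.mem_centralizer_singleton_iff.1 hw.2)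
  rcases dichotomy hF (by omega) hι H2 hH with hfull | hN
  · exact not_full hL hP hfull
  obtain ⟨g, hgL, hgt, hg1, hg3⟩ := hL.three
  haveI : Finite P3 := inferInstance
  haveI : Fact (Nat.Prime 3) := ⟨by norm_num⟩
  have hEp : IsPGroup 3 ((E h).subgroupOf L) := fun ⟨⟨a, haL⟩, ha⟩ => ⟨1, by
    apply Subtype.ext; apply Subtype.ext
    simpa using E_cube h (Subgroup.mem_subgroupOf.1 ha)⟩
  obtain ⟨S, hS⟩ := hEp.exists_le_sylow
  by_cases hSE : (S : Subgroup L) ≤ (E h).subgroupOf L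
  · -- every element of order three is conjugate into `E`
    have hgp : IsPGroup 3 (Subgroup.zpowers (⟨g, hgL⟩ : L)) := by
      refine IsPGroup.of_card (n := 1) ?_
      rw [Nat.card_zpowers, pow_one]
      exact orderOf_eq_prime (Subtype.ext (by simpa using hg3))
        (fun e => hg1 (congrArg Subtype.val e))
    obtain ⟨S', hS'⟩ := hgp.exists_le_sylow
    obtain ⟨a, ha⟩ := MulAction.exists_smul_eq L S' S
    have hmem : a * ⟨g, hgL⟩ * a⁻¹ ∈ (E h).subgroupOf L := by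
      refine hSE ?_
      rw [← ha]
      exact ⟨_, hS' (Subgroup.mem_zpowers _), rfl⟩
    refine no_centralised hL hP hι hN (Subgroup.mem_subgroupOf.1 hmem) ?_
      (mul_mem (mul_mem a.2 hL.mem_t) (inv_mem a.2)) ?_ ?_ ?_
    · intro e0
      refine hg1 ?_
      have e0' : (a : P3) * g * (a : P3)⁻¹ = 1 := e0
      calc g = (a : P3)⁻¹ * ((a : P3) * g * (a : P3)⁻¹) * a := by group
        _ = 1 := by rw [e0']; group
    · calc (a : P3) * pt * (a : P3)⁻¹ * ((a : P3) * pt * (a : P3)⁻¹) = (a : P3) * (pt * pt) * (a : P3)⁻¹ := by group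
        _ = 1 := by rw [pt_sq]; group
    · intro e0
      exact pt_ne_one h2 (by
        calc (pt : P3) = (a : P3)⁻¹ * ((a : P3) * pt * (a : P3)⁻¹) * (a : P3) := by group
          _ = 1 := by rw [e0]; group)
    · show (a : P3) * g * (a : P3)⁻¹ * ((a : P3) * pt * (a : P3)⁻¹) = (a : P3) * pt * (a : P3)⁻¹ * ((a : P3) * g * (a : P3)⁻¹)
      calc (a : P3) * g * (a : P3)⁻¹ * ((a : P3) * pt * (a : P3)⁻¹) = (a : P3) * (g * pt) * (a : P3)⁻¹ := by group
        _ = (a : P3) * (pt * g) * (a : P3)⁻¹ := by rw [hgt]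
        _ = _ := by group
  -- an element of the normaliser outside `E`
  set ES := ((E h).subgroupOf L).subgroupOf (S : Subgroup L) with hES
  have hEStop : ES < ⊤ := lt_top_iff_ne_top.2 fun e => hSE (Subgroup.subgroupOf_eq_top.1 e)
  haveI : Group.IsNilpotent (S : Subgroup L) := S.isPGroup'.isNilpotent
  obtain ⟨n₀, hn₀, hn₀E⟩ := SetLike.exists_of_lt (normalizerCondition_of_isNilpotent ES hEStop)
  obtain ⟨k, hk⟩ := S.isPGroup' n₀
  set n : P3 := ((n₀ : L) : P3) with hn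
  have hnL : n ∈ L := (n₀ : L).2
  have hnE : n ∉ E h := fun e => hn₀E e
  have hnk : n ^ 3 ^ k = 1 := by
    have := congrArg (fun y : (S : Subgroup L) => ((y : L) : P3)) hk
    simpa [hn] using this
  have hnorm : ∀ a ∈ E h, n * a * n⁻¹ ∈ E h := fun a ha => by
    have haS : (⟨a, hL.mem_E ha⟩ : L) ∈ (S : Subgroup L) := hS (Subgroup.mem_subgroupOf.2 ha)
    have := (Subgroup.mem_normalizer_iff.1 hn₀ ⟨_, haS⟩).1 ha
    exact this
  have hnorm' : ∀ a ∈ E h, n⁻¹ * a * n ∈ E h := fun a ha => by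
    have haS : (⟨a, hL.mem_E ha⟩ : L) ∈ (S : Subgroup L) := hS (Subgroup.mem_subgroupOf.2 ha)
    have := (Subgroup.mem_normalizer_iff.1 (inv_mem hn₀) ⟨_, haS⟩).1 ha
    have e : ((((n₀⁻¹ * ⟨_, haS⟩ * n₀⁻¹⁻¹ : (S : Subgroup L))) : L) : P3) = n⁻¹ * a * n := by simp [hn]
    rw [← e]
    exact this
  have t2 : (pt : P3)⁻¹ = pt := inv_eq_of_mul_eq_one_right pt_sq
  have hinv : ∀ a ∈ E h, pt * a = a⁻¹ * pt := fun a ha => by
    rw [← E_t h ha]; group
  have hq : n * pt * n⁻¹ * pt ∈ E h := by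
    rw [E, Subgroup.mem_centralizer_iff]
    intro b hb
    have hbE : b ∈ E h := by
      rcases hb with rfl | rfl
      · exact px_mem h
      · exact py_mem h
    set c := n⁻¹ * b⁻¹ * n with hc
    have hcE : c ∈ E h := hnorm' _ (inv_mem hbE)
    symm
    calc n * pt * n⁻¹ * pt * b = n * pt * n⁻¹ * (b⁻¹ * pt) := by rw [mul_assoc _ pt b, hinv b hbE]
      _ = n * (pt * c) * n⁻¹ * pt := by rw [hc]; group
      _ = n * (c⁻¹ * pt) * n⁻¹ * pt := by rw [hinv c hcE]
      _ = b * (n * pt * n⁻¹ * pt) := by rw [hc]; group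
  set q := n * pt * n⁻¹ * pt with hqdef
  set r := q * q with hr
  have hrE : r ∈ E h := mul_mem hq hq
  have hq3 := E_cube h hq
  set n' := r⁻¹ * n with hn'
  have hn'L : n' ∈ L := mul_mem (inv_mem (hL.mem_E hrE)) hnL
  have hn't : n' * pt = pt * n' := by
    have h1 : n * pt = q * pt * n := by
      rw [hqdef]
      calc n * pt = n * pt * n⁻¹ * (pt * pt) * n := by rw [pt_sq]; group
        _ = _ := by group
    calc n' * pt = r⁻¹ * (n * pt) := by rw [hn', mul_assoc]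
      _ = r⁻¹ * q * pt * n := by rw [h1]; group
      _ = r * pt * n := by
        congr 2
        rw [hr]
        calc (q * q)⁻¹ * q = q⁻¹ := by group
          _ = q * q := inv_eq_of_mul_eq_one_right (by rw [← hq3, pow_succ, pow_two]; group)
      _ = pt * (r⁻¹ * n) := by rw [← mul_assoc pt, hinv _ (inv_mem hrE), inv_inv]
  have hn'E : n' ∉ E h := fun e => hnE (by
    have : r * n' = n := by rw [hn']; group
    rw [← this]; exact mul_mem hrE e)
  have hn'norm : ∀ a ∈ E h, n' * a * n'⁻¹ ∈ E h := fun a ha => by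
    rw [hn', show r⁻¹ * n * a * (r⁻¹ * n)⁻¹ = r⁻¹ * (n * a * n⁻¹) * r by group]
    exact mul_mem (mul_mem (inv_mem hrE) (hnorm a ha)) hrE
  obtain ⟨k', hk'⟩ : ∃ k', n' ^ 3 ^ k' = 1 := by
    have hrS : (⟨r, hL.mem_E hrE⟩ : L) ∈ (S : Subgroup L) := hS (Subgroup.mem_subgroupOf.2 hrE)
    obtain ⟨k', hk'⟩ := S.isPGroup' (⟨_, hrS⟩⁻¹ * n₀)
    refine ⟨k', ?_⟩
    have := congrArg (fun y : (S : Subgroup L) => ((y : L) : P3)) hk'
    simpa [hn', hn] using this
  -- an element of order three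
  obtain ⟨w, hwL, hwt, hw3, hw1, hwnorm⟩ : ∃ w ∈ L, w * pt = pt * w ∧ w ^ 3 = 1 ∧ w ≠ 1 ∧
      ∀ a ∈ E h, w * a * w⁻¹ ∈ E h := by
    have hdvd : 3 ∣ orderOf n' := by
      obtain ⟨j, -, hj⟩ := (Nat.dvd_prime_pow (Fact.out : Nat.Prime 3)).1 (orderOf_dvd_of_pow_eq_one hk')
      rcases Nat.eq_zero_or_pos j with rfl | hjpos
      · exact absurd (orderOf_eq_one_iff.1 (by simpa using hj)) fun e => hn'E (by rw [e]; exact one_mem _)
      · rw [hj]; exact dvd_pow_self 3 (by omega)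
    refine ⟨n' ^ (orderOf n' / 3), pow_mem hn'L _, ((show Commute n' pt from hn't).pow_left _).eq, ?_, ?_, ?_⟩
    · rw [← pow_mul, Nat.div_mul_cancel hdvd, pow_orderOf_eq_one]
    · intro e
      have h1 := Nat.le_of_dvd (Nat.div_pos (Nat.le_of_dvd (orderOf_pos n') hdvd) (by norm_num))
        (orderOf_dvd_of_pow_eq_one e)
      have h3 := Nat.div_lt_self (orderOf_pos n') (by norm_num : 1 < 3)
      omega
    · generalize orderOf n' / 3 = m
      induction m with
      | zero => intro a ha; simpa using ha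
      | succ m ih =>
        intro a ha
        rw [pow_succ, show n' ^ m * n' * a * (n' ^ m * n')⁻¹ = n' ^ m * (n' * a * n'⁻¹) * (n' ^ m)⁻¹ by group]
        exact ih _ (hn'norm a ha)
  -- a fixed element
  obtain ⟨z, hz, hz1, hwz⟩ : ∃ z ∈ E h, z ≠ 1 ∧ w * z = z * w := by
    let δ : P3 → P3 := fun a => w * a * w⁻¹ * a⁻¹
    have hδ : ∀ a ∈ E h, δ a ∈ E h := fun a ha => mul_mem (hwnorm a ha) (inv_mem ha)
    have hfix : ∀ a, δ a = 1 → w * a = a * w := fun a ha =>
      calc w * a = δ a * (a * w) := by show w * a = w * a * w⁻¹ * a⁻¹ * (a * w); group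
        _ = a * w := by rw [ha, one_mul]
    have h3 : ∀ a ∈ E h, δ (δ (δ a)) = 1 := by
      intro a ha
      have hb : w * a * w⁻¹ ∈ E h := hwnorm a ha
      have hc : w * (w * a * w⁻¹) * w⁻¹ ∈ E h := hwnorm _ hb
      set b := w * a * w⁻¹ with hbdef
      set c := w * b * w⁻¹ with hcdef
      have hwc : w * c * w⁻¹ = a := by
        rw [hcdef, hbdef]
        calc w * (w * (w * a * w⁻¹) * w⁻¹) * w⁻¹ = w ^ 3 * a * (w ^ 3)⁻¹ := by
              rw [pow_succ, pow_two]; group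
          _ = a := by rw [hw3]; group
      have e1 : δ a = b * a⁻¹ := rfl
      have e2 : δ (b * a⁻¹) = c * b⁻¹ * (b * a⁻¹)⁻¹ := by
        show w * (b * a⁻¹) * w⁻¹ * (b * a⁻¹)⁻¹ = _
        congr 1
        rw [hcdef, hbdef]; group
      have e3 : δ (c * b⁻¹ * (b * a⁻¹)⁻¹) = a * c⁻¹ * (c * b⁻¹)⁻¹ * (c * b⁻¹ * (b * a⁻¹)⁻¹)⁻¹ := by
        show w * (c * b⁻¹ * (b * a⁻¹)⁻¹) * w⁻¹ * _ = _
        congr 1
        calc w * (c * b⁻¹ * (b * a⁻¹)⁻¹) * w⁻¹ = (w * c * w⁻¹) * c⁻¹ * (c * b⁻¹)⁻¹ := by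
              rw [hcdef, hbdef]; group
          _ = _ := by rw [hwc]
      rw [e1, e2, e3]
      letI : CommGroup (E h) :=
        { (inferInstance : Group (E h)) with mul_comm := fun x y => Subtype.ext (E_comm h x.2 y.2) }
      have key3 : ∀ A B C : E h,
          A * C⁻¹ * (C * B⁻¹)⁻¹ * (C * B⁻¹ * (B * A⁻¹)⁻¹)⁻¹ = B ^ 3 * (C ^ 3)⁻¹ := by
        intro A B C
        apply Additive.ofMul.injective
        simp only [ofMul_mul, ofMul_inv, ofMul_pow]
        abel
      have := congrArg Subtype.val (key3 ⟨a, ha⟩ ⟨b, hb⟩ ⟨c, hc⟩)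
      simp only [Subgroup.coe_mul, InvMemClass.coe_inv, SubgroupClass.coe_pow] at this
      rw [this, E_cube h hb, E_cube h hc]
      group
    by_cases ha : δ (px h) = 1
    · exact ⟨_, px_mem h, px_ne_one h, hfix _ ha⟩
    by_cases hb : δ (δ (px h)) = 1
    · exact ⟨_, hδ _ (px_mem h), ha, hfix _ hb⟩
    exact ⟨_, hδ _ (hδ _ (px_mem h)), hb, hfix _ (h3 _ (px_mem h))⟩
  -- conjugate it to the diagonal generator
  obtain ⟨w0, hw0, hcase⟩ := exists_conj h hz hz1
  set w1 := w0⁻¹ * w * w0 with hw1def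
  have hw1L : w1 ∈ L := by
    have := hL.stable w0⁻¹ (inv_mem hw0) w hwL
    rwa [inv_inv] at this
  have hw1t : w1 * pt = pt * w1 := by
    have c0 : Commute w0 pt := comm_pt_of_mem h hw0
    exact ((c0.inv_left.mul_left hwt).mul_left c0).eq
  have hw1x : w1 * px h = px h * w1 := by
    have hcomm : ∀ f : P3, f = w0 * px h * w0⁻¹ → w * f = f * w → w1 * px h = px h * w1 :=
      fun f hf hfd => by
        have h1 : px h = w0⁻¹ * f * w0 := by rw [hf]; group
        rw [h1, hw1def, show w0⁻¹ * w * w0 * (w0⁻¹ * f * w0) = w0⁻¹ * (w * f) * w0 by group, hfd]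
        group
    rcases hcase with h1 | h1
    · exact hcomm _ h1 hwz
    · exact hcomm _ h1 ((show Commute w z from hwz).inv_right).eq
  have hw13 : w1 ^ 3 = 1 := by
    rw [hw1def, show w0⁻¹ * w * w0 = w0⁻¹ * w * w0⁻¹⁻¹ by group, conj_pow, hw3]; group
  have hw11 : w1 ≠ 1 := fun e0 => hw1 (by
    calc w = w0 * w1 * w0⁻¹ := by rw [hw1def]; group
      _ = 1 := by rw [e0]; group)
  obtain ⟨W, hW⟩ := mk_surj w1
  have hWT : W.1 * Tm = Tm * W.1 := by
    refine (invol_comm (D := sT) (B := W) Tm_sq ?_).symm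
    rw [hW]; exact hw1t.symm
  have hWX : W.1 * Xm ω = Xm ω * W.1 := by
    obtain ⟨c, hc, he⟩ := comm_iff.1 (show mk (sX h) * mk W = mk W * mk (sX h) by rw [hW]; exact hw1x.symm)
    change W.1 * Xm ω = c • (Xm ω * W.1) at he
    have e2 : W.1 * (Xm ω * Xm ω) = c • (Xm ω * Xm ω * W.1) := by
      calc W.1 * (Xm ω * Xm ω) = W.1 * (Tm * Xm ω * Tm) := by
            rw [TX h, mul_assoc (Xm ω * Xm ω), Tm_sq, mul_one]
        _ = Tm * (W.1 * Xm ω) * Tm := by simp only [← mul_assoc, hWT]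
        _ = c • (Tm * Xm ω * (W.1 * Tm)) := by
            rw [he, Matrix.mul_smul, Matrix.smul_mul]; simp only [← mul_assoc]
        _ = c • (Xm ω * Xm ω * W.1) := by
            rw [hWT, TX h, mul_assoc (Xm ω * Xm ω), ← mul_assoc Tm, Tm_sq, one_mul]
    have e3 : W.1 * (Xm ω * Xm ω) = (c * c) • (Xm ω * Xm ω * W.1) := by
      rw [← mul_assoc, he, Matrix.smul_mul, mul_assoc, he, Matrix.mul_smul, smul_smul, mul_assoc]
    have hne : Xm ω * Xm ω * W.1 ≠ 0 := val_ne_zero (sX h * sX h * W)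
    have hcc := smul_left_injective F hne (e2.symm.trans e3)
    have hc1 : c = 1 := mul_left_cancel₀ (show c ≠ 0 from fun e0 => by rw [e0] at hc; simp at hc)
      (by simpa using hcc.symm)
    rw [hc1, one_smul] at he
    exact he
  have hWd := diag_of_commX h hWX
  set a := W.1 0 0 with ha_def
  set b := W.1 1 1 with hb_def
  have hcb : W.1 2 2 = b := by
    have := congrFun (congrFun hWT 1) 2
    rw [hWd] at this
    simp [Tm, Matrix.mul_apply, Fin.sum_univ_three] at this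
    exact this.symm
  have hdet : a * b * b = 1 := by
    have := W.2
    rw [hWd, Matrix.det_diagonal, Fin.prod_univ_three, hcb] at this
    exact this
  obtain ⟨c, hc, hWc⟩ := mk_eq_one.1 (show mk (W ^ 3) = 1 by rw [map_pow, hW, hw13])
  rw [Matrix.SpecialLinearGroup.coe_pow, hWd, Matrix.diagonal_pow] at hWc
  have ha3 : a ^ 3 = c := by
    have := congrFun (congrFun hWc 0) 0
    simpa using this
  have hb3 : b ^ 3 = c := by
    have := congrFun (congrFun hWc 1) 1
    simpa using this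
  have hc1 : c ≠ 1 := fun e0 => hw11 (by
    rw [e0] at ha3 hb3
    have hab : a = b := by linear_combination b * hdet - a * hb3
    rw [← hW]
    refine mk_eq_one.2 ⟨a, ha3, ?_⟩
    rw [hWd, Matrix.smul_one_eq_diagonal]
    congr 1
    funext i
    fin_cases i
    · rfl
    · exact hab.symm
    · exact hcb.trans hab.symm)
  obtain ⟨A, hA⟩ := Φ_surj hP hw1t
  obtain ⟨c', hc', hAW⟩ : ∃ c' : F, c' ^ 3 = 1 ∧ (embSL P A).1 = c' • W.1 :=
    mk_eq_iff.1 (hW.trans hA.symm)
  have hdetA : (A.1.det)⁻¹ = c' * b := by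
    have hax : W.1 * (1 + Tm) = b • (1 + (Tm : Mn)) := by
      rw [hWd]
      ext i j
      rw [Matrix.diagonal_mul, Matrix.smul_apply, smul_eq_mul]
      fin_cases i
      · fin_cases j <;> simp [Tm]
      · rfl
      · show W.1 2 2 * _ = _
        rw [hcb]
    have h1 : (embSL P A).1 * (1 + Tm) = (c' * b) • (1 + (Tm : Mn)) := by
      rw [hAW, Matrix.smul_mul, hax, smul_smul]
    change P.1 * emb A.1 * (P⁻¹).1 * (1 + Tm) = _ at h1
    rw [hP.eq] at h1
    have h2' := congrArg (fun M => (P⁻¹).1 * M * P.1) h1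
    simp only [Matrix.mul_add, Matrix.add_mul, Matrix.mul_smul, Matrix.smul_mul, mul_one, mul_assoc,
      Units.inv_mul_cancel_left, Units.inv_mul] at h2'
    have h3 := congrFun (congrFun h2' 2) 2
    simp [emb, dvec, Matrix.vecMul_diagonal] at h3
    refine mul_left_cancel₀ hP.two ?_
    linear_combination h3
  have hAH : A ∈ H2 := by show Φ P A ∈ L; rw [hA]; exact hw1L
  have hA3 : ι A ^ 3 = 1 := by
    rw [← map_pow]; exact hker _ (by rw [map_pow, hA, hw13])
  obtain ⟨_, ⟨B, hBH, rfl⟩, _, ⟨B', hB'H, rfl⟩, hcm⟩ := hN.2 _ ⟨A, hAH, rfl⟩ hA3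
  set K := ⁅B, B'⁆⁻¹ * A with hK
  have hKH : K ∈ H2 := mul_mem (inv_mem (by
    rw [commutatorElement_def]
    exact mul_mem (mul_mem (mul_mem hBH hB'H) (inv_mem hBH)) (inv_mem hB'H))) hAH
  obtain ⟨l, hl⟩ := (hι K).1 (by rw [hK, map_mul, map_inv, map_commutatorElement, ← hcm]; group)
  have hdetK : l * l = A.1.det := by
    have hu : Matrix.GeneralLinearGroup.det ⁅B, B'⁆ = 1 := by
      rw [map_commutatorElement, commutatorElement_eq_one_iff_mul_comm]; exact mul_comm _ _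
    have h1 : Matrix.GeneralLinearGroup.det K = Matrix.GeneralLinearGroup.det A := by
      rw [hK, map_mul, map_inv, hu, inv_one, one_mul]
    have h2' : K.1.det = A.1.det := congrArg Units.val h1
    rw [hl, Matrix.det_smul, Matrix.det_one, mul_one, Fintype.card_fin, sq] at h2'
    exact h2'
  have hK2 : (K * K).1 = (l * l) • (1 : Matrix (Fin 2) (Fin 2) F) := by
    rw [Units.val_mul, hl, Matrix.smul_mul, one_mul, smul_smul]
  set x3 := Φ P (K * K) with hx3
  have hx3L : x3 ∈ L := mul_mem hKH hKH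
  have hc0 : c ≠ 0 := fun e0 => by rw [e0] at hc; simp at hc
  have hl6 : (l * l) ^ 3 = c⁻¹ := by
    rw [hdetK, ← inv_inv A.1.det, hdetA, inv_pow, mul_pow, hc', hb3, one_mul]
  have hemb : ∀ s : F, emb (s • (1 : Matrix (Fin 2) (Fin 2) F)) = Matrix.diagonal ![s, s, (s * s)⁻¹] :=
    fun s => emb_smul
  have hx31 : x3 ≠ 1 := fun e0 => hc1 (by
    obtain ⟨s, hs, he⟩ := mk_eq_one.1 e0
    replace he : P.1 * emb (K * K).1 * (P⁻¹).1 = s • (1 : Mn) := he
    have he' : emb (K * K).1 = s • (1 : Mn) := by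
      have := congrArg (fun M => (P⁻¹).1 * M * P.1) he
      simpa only [mul_assoc, Units.inv_mul_cancel_left, Units.inv_mul, mul_one, Matrix.mul_smul,
        Matrix.smul_mul, one_mul] using this
    rw [hK2, hemb] at he'
    have e00 : l * l = s := by simpa using congrFun (congrFun he' 0) 0
    rw [e00, hs] at hl6
    exact inv_eq_one.1 hl6.symm)
  have hx33 : x3 ^ 3 = 1 := by
    rw [hx3, ← map_pow]
    have hK6 : ((K * K) ^ 3).1 = c⁻¹ • (1 : Matrix (Fin 2) (Fin 2) F) := by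
      rw [Units.val_pow_eq_pow_val, hK2, smul_pow, one_pow, hl6]
    have hci : c⁻¹ ^ 3 = 1 := by rw [inv_pow, hc, inv_one]
    refine mk_eq_one.2 ⟨c⁻¹, hci, ?_⟩
    show P.1 * emb ((K * K) ^ 3).1 * (P⁻¹).1 = c⁻¹ • (1 : Mn)
    rw [hK6, hemb, show (![c⁻¹, c⁻¹, (c⁻¹ * c⁻¹)⁻¹] : Fin 3 → F) = fun _ => c⁻¹ from by
      funext i; fin_cases i <;> simp
      field_simp
      linear_combination hc,
      ← Matrix.smul_one_eq_diagonal, Matrix.mul_smul, mul_one, Matrix.smul_mul, Units.mul_inv]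
  obtain ⟨d, hdL, hdt, hd2, hd1, hdne⟩ := hL.four
  exact hx31 (key hL hP hι hN hL.mem_t pt_sq (pt_ne_one h2) hdL hd2 hd1 hdt.symm hdne.symm hx3L hx33
    (Φ_comm hP _) (Φ_scalar_central hP hK2 hdt))

end CfsgLib.MaxSub.SLThree.Hess
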