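/-
Minimal invariant subgroups in a finite group of `2`-rank two.
-/
import Cfsg.Agent.Lib.Basic
import Cfsg.Agent.Lib.Elementary
import Cfsg.Agent.S0205
import Cfsg.Agent.S0225
import Mathlib.GroupTheory.SpecificGroups.KleinFour
import Mathlib.GroupTheory.Sylow

set_option autoImplicit false
set_option linter.unusedSectionVars false

namespace CfsgLib.MaxSub.SLThree.Hess

open Cfsg
open scoped commutatorElement

variable {G : Type*} [Group G]

/-- Invariance under conjugation by a subgroup. -/
def Inv (A N : Subgroup G) : Prop := ∀ a ∈ A, ∀ x ∈ N, a * x * a⁻¹ ∈ N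

/-- A minimal nontrivial invariant subgroup. -/
structure IsMin (A N : Subgroup G) : Prop where
  inv : Inv A N
  ne_bot : N ≠ ⊥
  min : ∀ M : Subgroup G, M ≤ N → Inv A M → M = ⊥ ∨ M = N

theorem exists_min [Finite G] {A N : Subgroup G} (hN : Inv A N) (h1 : N ≠ ⊥) :
    ∃ M ≤ N, IsMin A M := by
  obtain ⟨M, ⟨hMN, hMi, hM0⟩, hmin⟩ := (Set.toFinite
    {M : Subgroup G | M ≤ N ∧ Inv A M ∧ M ≠ ⊥}).exists_minimal ⟨N, le_rfl, hN, h1⟩
  refine ⟨M, hMN, hMi, hM0, fun K hK hKi => ?_⟩
  by_cases hK0 : K = ⊥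
  · exact Or.inl hK0
  · exact Or.inr (le_antisymm hK (hmin ⟨hK.trans hMN, hKi, hK0⟩ hK))

/-- The automorphism of an invariant subgroup induced by conjugation. -/
def conjEquiv {A N : Subgroup G} (hN : Inv A N) {a : G} (ha : a ∈ A) : N ≃* N where
  toFun x := ⟨a * x.1 * a⁻¹, hN a ha _ x.2⟩
  invFun x := ⟨a⁻¹ * x.1 * a, by simpa using hN a⁻¹ (inv_mem ha) _ x.2⟩
  left_inv x := Subtype.ext (by simp [mul_assoc])
  right_inv x := Subtype.ext (by simp [mul_assoc])
  map_mul' x y := Subtype.ext (by simp [mul_assoc])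

theorem inv_char {A N : Subgroup G} (hN : Inv A N) (M : Subgroup N) [hM : M.Characteristic] :
    Inv A (M.map N.subtype) := by
  rintro a ha _ ⟨x, hx, rfl⟩
  refine ⟨conjEquiv hN ha x, ?_, rfl⟩
  have := Subgroup.characteristic_iff_comap_eq.1 hM (conjEquiv hN ha)
  rw [← this] at hx
  exact hx

theorem IsMin.char_cases {A N : Subgroup G} (h : IsMin A N) (M : Subgroup N) [M.Characteristic] :
    M = ⊥ ∨ M = ⊤ := by
  rcases h.min _ (Subgroup.map_subtype_le M) (inv_char h.inv M) with e | e
  · exact Or.inl ((Subgroup.map_eq_bot_iff_of_injective _ N.subtype_injective).1 e)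
  · exact Or.inr (Subgroup.map_injective N.subtype_injective (by
      rw [e, ← MonoidHom.range_eq_map, Subgroup.range_subtype]))

variable [Finite G]

/-- A minimal invariant subgroup is elementary abelian or of even order. -/
theorem IsMin.abelian_or {A N : Subgroup G} (h : IsMin A N) :
    ((∀ x ∈ N, ∀ y ∈ N, x * y = y * x) ∧ ∃ r : ℕ, r.Prime ∧ ∀ x ∈ N, x ^ r = 1) ∨
      (¬ IsMulCommutative N ∧ Even (Nat.card N)) := by
  haveI : Nontrivial N := (Subgroup.nontrivial_iff_ne_bot N).2 h.ne_bot
  by_cases hc : IsMulCommutative N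
  · left
    have hcm : ∀ x ∈ N, ∀ y ∈ N, x * y = y * x := fun x hx y hy =>
      congrArg Subtype.val (hc.is_comm.comm ⟨x, hx⟩ ⟨y, hy⟩)
    refine ⟨hcm, ?_⟩
    obtain ⟨r, hr, hrd⟩ := Nat.exists_prime_and_dvd (n := Nat.card N)
      (by have := Finite.one_lt_card (α := N); omega)
    haveI := Fact.mk hr
    let T : Subgroup G :=
      { carrier := {x | x ∈ N ∧ x ^ r = 1}
        one_mem' := ⟨N.one_mem, one_pow r⟩
        mul_mem' := fun {a b} ha hb => ⟨N.mul_mem ha.1 hb.1, by
          rw [(show Commute a b from hcm a ha.1 b hb.1).mul_pow, ha.2, hb.2, one_mul]⟩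
        inv_mem' := fun {a} ha => ⟨N.inv_mem ha.1, by rw [inv_pow, ha.2, inv_one]⟩ }
    have hT : Inv A T := fun a ha x hx => ⟨h.inv a ha x hx.1, by rw [conj_pow, hx.2]; group⟩
    rcases h.min T (fun x hx => hx.1) hT with e | e
    · exfalso
      obtain ⟨x, hx⟩ := exists_prime_orderOf_dvd_card' r hrd
      have hx1 : (x : G) ∈ T := ⟨x.2, by
        rw [← Subgroup.coe_pow, ← hx, pow_orderOf_eq_one, Subgroup.coe_one]⟩
      rw [e, Subgroup.mem_bot, OneMemClass.coe_eq_one] at hx1
      rw [hx1, orderOf_one] at hx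
      exact hr.ne_one hx.symm
    · exact ⟨r, hr, fun x hx => by rw [← e] at hx; exact hx.2⟩
  · refine Or.inr ⟨hc, (Nat.even_or_odd _).resolve_right fun ho => hc ?_⟩
    haveI := Cfsg.Agent.S0205.result ho
    have hlt := Group.IsSolvable.commutator_lt_top_of_nontrivial N
    exact (commutator_eq_bot_iff N).mp ((h.char_cases (commutator N)).resolve_right hlt.ne)

/-- A non-abelian minimal invariant subgroup contains a four-group. -/
theorem IsMin.exists_four {A N : Subgroup G} (h : IsMin A N) (hnc : ¬ IsMulCommutative N)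
    (hev : Even (Nat.card N)) : ∃ a ∈ N, ∃ b ∈ N, a * a = 1 ∧ a ≠ 1 ∧ b * b = 1 ∧ b ≠ 1 ∧ a ≠ b ∧
      a * b = b * a := by
  have hO : Cfsg.oddCore N = ⊥ := (h.char_cases _).resolve_right fun e => by
    have hc : Odd (Nat.card (Cfsg.pPrimeCore 2 N)) :=
      Nat.coprime_two_right.1 (CfsgLib.card_pPrimeCore_coprime 2)
    change Cfsg.pPrimeCore 2 N = ⊤ at e
    rw [e, Subgroup.card_top] at hc
    exact Nat.not_odd_iff_even.2 hev hc
  by_contra hno
  obtain ⟨z, hz, M, hM, hMo, hcm⟩ := Cfsg.Agent.S0225.result hev fun K hK => by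
    classical
    obtain ⟨a, b, ha1, hb1, hab⟩ : ∃ a b : K, a ≠ 1 ∧ b ≠ 1 ∧ a ≠ b := by
      haveI := Fintype.ofFinite K
      have h4 : Fintype.card K = 4 := by rw [← Nat.card_eq_fintype_card]; exact hK.card_four
      obtain ⟨a, ha⟩ := Fintype.exists_ne_of_one_lt_card (by omega) (1 : K)
      obtain ⟨b, hb⟩ : ∃ b : K, b ∉ ({1, a} : Finset K) := by
        by_contra hcon
        push_neg at hcon
        have := Finset.card_le_card (s := (Finset.univ : Finset K)) (t := {1, a}) fun x _ => hcon x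
        rw [Finset.card_univ, h4] at this
        have h2 : ({1, a} : Finset K).card ≤ 2 := Finset.card_le_two
        omega
      simp only [Finset.mem_insert, Finset.mem_singleton, not_or] at hb
      exact ⟨a, b, ha, hb.1, fun e => hb.2 e.symm⟩
    have hsq : ∀ x : K, x * x = 1 := fun x => by
      have := Monoid.pow_exponent_eq_one x
      rwa [hK.exponent_two, pow_two] at this
    have hcom : a * b = b * a := (IsKleinFour.isMulCommutative (G := K)).is_comm.comm a b
    refine hno ⟨_, (a : N).2, _, (b : N).2, ?_, ?_, ?_, ?_, ?_, ?_⟩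
    · exact congrArg (fun x : K => ((x : N) : G)) (hsq a)
    · exact fun e => ha1 (Subtype.ext (Subtype.ext e))
    · exact congrArg (fun x : K => ((x : N) : G)) (hsq b)
    · exact fun e => hb1 (Subtype.ext (Subtype.ext e))
    · exact fun e => hab (Subtype.ext (Subtype.ext e))
    · exact congrArg (fun x : K => ((x : N) : G)) hcom
  have hMbot : M = ⊥ := eq_bot_iff.2 fun x hx => by
    have : M ≤ Cfsg.oddCore N := le_sSup ⟨hM, Nat.coprime_two_right.2 hMo⟩
    have := this hx
    rwa [hO] at this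
  have hzc : z ∈ Subgroup.center N := Subgroup.mem_center_iff.2 fun g => by
    have := hcm g
    rw [hMbot, Subgroup.mem_bot] at this
    exact (mul_inv_eq_iff_eq_mul.mp (mul_inv_eq_one.mp this)).symm
  rcases h.char_cases (Subgroup.center N) with e | e
  · rw [e, Subgroup.mem_bot] at hzc
    rw [hzc, orderOf_one] at hz
    norm_num at hz
  · exact hnc ⟨⟨fun a b => (Subgroup.mem_center_iff.1 (e.symm.le (Subgroup.mem_top a)) b).symm⟩⟩

/-- In `2`-rank two a non-abelian minimal invariant subgroup is simple. -/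
theorem IsMin.simple {A L : Subgroup G} (h : IsMin A L) (hLA : L ≤ A) (hnc : ¬ IsMulCommutative L)
    (hrk : ∀ B : Subgroup G, (∀ a ∈ B, ∀ b ∈ B, a * b = b * a) → (∀ a ∈ B, a * a = 1) → Nat.card B ≤ 4) :
    IsSimpleGroup L := by
  haveI : Nontrivial L := (Subgroup.nontrivial_iff_ne_bot L).2 h.ne_bot
  refine ⟨fun M hM => ?_⟩
  by_cases hM0 : M = ⊥
  · exact Or.inl hM0
  refine Or.inr ?_
  have hMi : Inv L (M.map L.subtype) := by
    rintro a ha _ ⟨x, hx, rfl⟩
    exact ⟨_, hM.conj_mem x hx ⟨a, ha⟩, rfl⟩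
  obtain ⟨N, hNM, hN⟩ := exists_min hMi fun e =>
    hM0 ((Subgroup.map_eq_bot_iff_of_injective _ L.subtype_injective).1 e)
  have hNL : N ≤ L := hNM.trans (Subgroup.map_subtype_le _)
  -- conjugates are again minimal
  let cj : G → Subgroup G := fun g => N.map (MulAut.conj g).toMonoidHom
  have hcjL : ∀ g ∈ A, cj g ≤ L := by
    rintro g hg _ ⟨x, hx, rfl⟩
    exact h.inv g hg x (hNL hx)
  have hcji : ∀ g ∈ A, Inv L (cj g) := by
    rintro g hg a ha _ ⟨x, hx, rfl⟩
    refine ⟨g⁻¹ * a * g * x * (g⁻¹ * a * g)⁻¹, hN.inv _ ?_ x hx, ?_⟩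
    · simpa using h.inv g⁻¹ (inv_mem hg) a ha
    · show g * (g⁻¹ * a * g * x * (g⁻¹ * a * g)⁻¹) * g⁻¹ = a * (g * x * g⁻¹) * a⁻¹
      group
  have hdis : ∀ g ∈ A, cj g ≠ N → N ⊓ cj g = ⊥ := by
    intro g hg hne
    have hi : Inv L (N ⊓ cj g) := fun a ha x hx => ⟨hN.inv a ha x hx.1, hcji g hg a ha x hx.2⟩
    refine (hN.min _ inf_le_left hi).resolve_right fun e => hne ?_
    refine (Subgroup.eq_of_le_of_card_ge (e.symm.le.trans inf_le_right) (le_of_eq ?_)).symm
    exact Subgroup.card_map_of_injective (MulAut.conj g).injective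
  have hcomm : ∀ g ∈ A, cj g ≠ N → ∀ x ∈ N, ∀ y ∈ cj g, x * y = y * x := by
    intro g hg hne x hx y hy
    have h1 : x * y * x⁻¹ * y⁻¹ ∈ N ⊓ cj g := by
      refine ⟨?_, (cj g).mul_mem (hcji g hg x (hNL hx) y hy) ((cj g).inv_mem hy)⟩
      rw [show x * y * x⁻¹ * y⁻¹ = x * (y * x⁻¹ * y⁻¹) by group]
      exact mul_mem hx (hN.inv y (hcjL g hg hy) _ (inv_mem hx))
    rw [hdis g hg hne, Subgroup.mem_bot, mul_inv_eq_one, mul_inv_eq_iff_eq_mul] at h1
    exact h1
  have hinvA : Inv A N := by
    intro g hg x hx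
    by_contra hx'
    have hne : cj g ≠ N := fun e => hx' (by rw [← e]; exact ⟨x, hx, rfl⟩)
    rcases hN.abelian_or with ⟨hab, -⟩ | ⟨hnc', hev⟩
    · -- the normal closure would be abelian
      refine hnc ⟨⟨fun a b => Subtype.ext ?_⟩⟩
      set S := {y : G | ∃ g ∈ A, y ∈ cj g}
      have hS : ∀ a ∈ S, ∀ b ∈ S, a * b = b * a := by
        rintro _ ⟨g1, hg1, u, hu, rfl⟩ _ ⟨g2, hg2, v, hv, rfl⟩
        have key : u * (g1⁻¹ * g2 * v * (g1⁻¹ * g2)⁻¹) = g1⁻¹ * g2 * v * (g1⁻¹ * g2)⁻¹ * u := by
          by_cases hne' : cj (g1⁻¹ * g2) = N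
          · exact hab _ hu _ (by rw [← hne']; exact ⟨v, hv, rfl⟩)
          · exact hcomm _ (mul_mem (inv_mem hg1) hg2) hne' _ hu _ ⟨v, hv, rfl⟩
        show g1 * u * g1⁻¹ * (g2 * v * g2⁻¹) = g2 * v * g2⁻¹ * (g1 * u * g1⁻¹)
        calc g1 * u * g1⁻¹ * (g2 * v * g2⁻¹) = g1 * (u * (g1⁻¹ * g2 * v * (g1⁻¹ * g2)⁻¹)) * g1⁻¹ := by group
          _ = g1 * (g1⁻¹ * g2 * v * (g1⁻¹ * g2)⁻¹ * u) * g1⁻¹ := by rw [key]
          _ = _ := by group
      have hcl : Inv A (Subgroup.closure S) := by
        intro a ha y hy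
        induction hy using Subgroup.closure_induction with
        | mem y hy =>
          obtain ⟨g1, hg1, u, hu, rfl⟩ := hy
          exact Subgroup.subset_closure ⟨a * g1, mul_mem ha hg1, u, hu, by
            show a * g1 * u * (a * g1)⁻¹ = a * (g1 * u * g1⁻¹) * a⁻¹
            group⟩
        | one => simp
        | mul y z _ _ hy hz => rw [← _root_.conj_mul]; exact mul_mem hy hz
        | inv y _ hy => rw [← conj_inv]; exact inv_mem hy
      have hle : Subgroup.closure S ≤ L := (Subgroup.closure_le L).2 fun y ⟨g1, hg1, hy⟩ => hcjL g1 hg1 hy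
      have heq : Subgroup.closure S = L := (h.min _ hle hcl).resolve_left fun e => hN.ne_bot (eq_bot_iff.2
        fun y hy => by rw [← e]; exact Subgroup.subset_closure ⟨1, one_mem _, y, hy, by simp⟩)
      haveI := Subgroup.isMulCommutative_closure hS
      have ha' : (a : G) ∈ Subgroup.closure S := heq.symm ▸ a.2
      have hb' : (b : G) ∈ Subgroup.closure S := heq.symm ▸ b.2
      have hq := congrArg Subtype.val (IsMulCommutative.is_comm.comm (⟨a, ha'⟩ : Subgroup.closure S) ⟨b, hb'⟩)
      exact hq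
    · -- two four-groups centralising each other
      obtain ⟨a, haN, b, hbN, ha, ha1, hb, hb1, hab, hc⟩ := hN.exists_four hnc' hev
      set B := Subgroup.closure ({a, b, g * a * g⁻¹, g * b * g⁻¹} : Set G) with hB
      have hga : g * a * g⁻¹ ∈ cj g := ⟨a, haN, rfl⟩
      have hgb : g * b * g⁻¹ ∈ cj g := ⟨b, hbN, rfl⟩
      have hgc : g * a * g⁻¹ * (g * b * g⁻¹) = g * b * g⁻¹ * (g * a * g⁻¹) := by
        rw [_root_.conj_mul, hc, ← _root_.conj_mul]
      have hcs : ∀ x ∈ ({a, b, g * a * g⁻¹, g * b * g⁻¹} : Set G),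
          ∀ y ∈ ({a, b, g * a * g⁻¹, g * b * g⁻¹} : Set G), x * y = y * x := by
        have hxy := hcomm g hg hne
        rintro x (rfl | rfl | rfl | rfl) y (rfl | rfl | rfl | rfl) <;>
          first
            | rfl
            | exact hc
            | exact hc.symm
            | exact hgc
            | exact hgc.symm
            | exact hxy _ (by assumption) _ (by assumption)
            | exact (hxy _ (by assumption) _ (by assumption)).symm
      haveI hBc := Subgroup.isMulCommutative_closure hcs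
      have hBcomm : ∀ x ∈ B, ∀ y ∈ B, x * y = y * x := fun x hx y hy =>
        congrArg Subtype.val (hBc.is_comm.comm ⟨x, hx⟩ ⟨y, hy⟩)
      have hsq : ∀ x ∈ B, x * x = 1 := by
        intro x hx
        induction hx using Subgroup.closure_induction with
        | mem y hy =>
          rcases hy with rfl | rfl | rfl | rfl
          · exact ha
          · exact hb
          · rw [_root_.conj_mul, ha]; group
          · rw [_root_.conj_mul, hb]; group
        | one => simp
        | mul y z hy hz h1 h2 =>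
          rw [mul_assoc, ← mul_assoc z, hBcomm z hz y hy, mul_assoc, h2, mul_one, h1]
        | inv y _ h1 => rw [← _root_.mul_inv_rev, h1, inv_one]
      have hsub := hrk B hBcomm hsq
      -- the product of two four-groups has order sixteen
      let f : (Bool × Bool) × (Bool × Bool) → B := fun t => ⟨(if t.1.1 then a else 1) * (if t.1.2 then b else 1) *
          ((if t.2.1 then g * a * g⁻¹ else 1) * (if t.2.2 then g * b * g⁻¹ else 1)), by
        refine mul_mem (mul_mem ?_ ?_) (mul_mem ?_ ?_) <;> split <;>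
          first
            | exact one_mem _
            | exact Subgroup.subset_closure (by simp)⟩
      have hinj : Function.Injective f := by
        intro s t e
        have e' := congrArg Subtype.val e
        simp only [f] at e'
        set u1 := (if s.1.1 then a else 1) * (if s.1.2 then b else 1) with hu1
        set u2 := (if t.1.1 then a else 1) * (if t.1.2 then b else 1) with hu2
        set v1 := (if s.2.1 then g * a * g⁻¹ else 1) * (if s.2.2 then g * b * g⁻¹ else 1) with hv1
        set v2 := (if t.2.1 then g * a * g⁻¹ else 1) * (if t.2.2 then g * b * g⁻¹ else 1) with hv2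
        have mN : ∀ c d : Bool, (if c then a else 1) * (if d then b else 1) ∈ N := fun c d => by
          refine mul_mem ?_ ?_ <;> split <;> first | exact one_mem _ | assumption
        have mC : ∀ c d : Bool, (if c then g * a * g⁻¹ else 1) * (if d then g * b * g⁻¹ else 1) ∈ cj g := fun c d => by
          refine mul_mem ?_ ?_ <;> split <;> first | exact one_mem _ | assumption
        have h1 : u2⁻¹ * u1 ∈ N ⊓ cj g := by
          refine ⟨N.mul_mem (N.inv_mem (mN _ _)) (mN _ _), ?_⟩
          have : u2⁻¹ * u1 = v2 * v1⁻¹ := by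
            rw [inv_mul_eq_iff_eq_mul, ← mul_assoc, ← e', mul_assoc, mul_inv_cancel, mul_one]
          rw [this]
          exact (cj g).mul_mem (mC _ _) ((cj g).inv_mem (mC _ _))
        rw [hdis g hg hne, Subgroup.mem_bot, inv_mul_eq_one] at h1
        have h2 : v1 = v2 := by rw [← h1] at e'; exact mul_left_cancel e'
        have four : ∀ (c d c' d' : Bool) (p q : G), p * p = 1 → q * q = 1 → p ≠ 1 → q ≠ 1 → p ≠ q →
            (if c then p else 1) * (if d then q else 1) = (if c' then p else 1) * (if d' then q else 1) →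
            c = c' ∧ d = d' := by
          intro c d c' d' p q hp hq hp1 hq1 hpq hh
          have hpq1 : p * q ≠ 1 := fun e => hpq (by rw [← mul_left_cancel_iff (a := p), hp, e])
          cases c <;> cases d <;> cases c' <;> cases d' <;> simp at hh ⊢ <;>
            first
              | exact hp1 hh | exact hp1 hh.symm | exact hq1 hh | exact hq1 hh.symm
              | exact hpq hh | exact hpq hh.symm | exact hpq1 hh | exact hpq1 hh.symm
        obtain ⟨q1, q2⟩ := four _ _ _ _ a b ha hb ha1 hb1 hab h1.symm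
        obtain ⟨q3, q4⟩ := four _ _ _ _ (g * a * g⁻¹) (g * b * g⁻¹) (by rw [_root_.conj_mul, ha]; group)
          (by rw [_root_.conj_mul, hb]; group) (fun e => ha1 (conj_eq_one_iff.1 e))
          (fun e => hb1 (conj_eq_one_iff.1 e)) (fun e => hab (mul_left_cancel (mul_right_cancel e))) h2
        exact Prod.ext (Prod.ext q1 q2) (Prod.ext q3 q4)
      have := Nat.card_le_card_of_injective f hinj
      simp at this
      omega
  have hNeq : N = L := (h.min N hNL hinvA).resolve_left hN.ne_bot
  refine Subgroup.map_injective L.subtype_injective ?_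
  rw [← MonoidHom.range_eq_map, Subgroup.range_subtype]
  exact le_antisymm (Subgroup.map_subtype_le _) (hNeq ▸ hNM)

end CfsgLib.MaxSub.SLThree.Hess
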