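/-
Facts on the alternating groups of degree six and seven.
-/
import Mathlib.GroupTheory.SpecificGroups.Alternating
import Mathlib.Data.Fintype.Perm

set_option autoImplicit false
set_option maxRecDepth 20000

namespace CfsgLib.MaxSub.SLThree.Hess.Six

local notation "A6" => Subtype (fun x => x ∈ alternatingGroup (Fin 6))

/-- An involution. -/
def t0 : alternatingGroup (Fin 6) :=
  ⟨Equiv.swap 0 1 * Equiv.swap 2 3, by rw [Equiv.Perm.mem_alternatingGroup]; decide⟩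

/-- An element of order five. -/
def g0 : alternatingGroup (Fin 6) :=
  ⟨Equiv.swap 0 1 * Equiv.swap 1 2 * Equiv.swap 2 3 * Equiv.swap 3 4, by
    rw [Equiv.Perm.mem_alternatingGroup]; decide⟩

/-- An element of order five. -/
def g7 : alternatingGroup (Fin 7) :=
  ⟨Equiv.swap 0 1 * Equiv.swap 1 2 * Equiv.swap 2 3 * Equiv.swap 3 4, by
    rw [Equiv.Perm.mem_alternatingGroup]; decide⟩

/-- The conjugating element. -/
def c7 : alternatingGroup (Fin 7) :=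
  ⟨Equiv.swap 1 2 * Equiv.swap 2 4 * Equiv.swap 4 3 * Equiv.swap 5 6, by
    rw [Equiv.Perm.mem_alternatingGroup]; decide⟩

theorem seven : g7 ^ 5 = 1 ∧ g7 ≠ 1 ∧ c7 * g7 * c7⁻¹ = g7 ^ 2 := by decide +kernel

theorem odd_involutions : (Finset.univ.filter (fun x : A6 => x * x = 1 ∧ x ≠ 1)).card = 45 := by
  decide +kernel

theorem one_class : ∀ x : A6, x * x = 1 → x ≠ 1 → ∃ a : A6, a * t0 * a⁻¹ = x := by decide +kernel

theorem four_exists : ∃ s : A6, s * t0 = t0 * s ∧ s * s = 1 ∧ s ≠ 1 ∧ s ≠ t0 ∧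
    ∃ s' : A6, s' * t0 = t0 * s' ∧ s' * s' = 1 ∧ s' ≠ 1 ∧ s' ≠ t0 ∧ s' ≠ s ∧ s' ≠ t0 * s := by
  decide +kernel

theorem four_cent : ∀ s : A6, s * t0 = t0 * s → s * s = 1 → s ≠ 1 → s ≠ t0 →
    ∀ l : A6, l * t0 = t0 * l → l * s = s * l → l = 1 ∨ l = t0 ∨ l = s ∨ l = t0 * s := by
  decide +kernel

theorem four_rotate : ∀ s : A6, s * t0 = t0 * s → s * s = 1 → s ≠ 1 → s ≠ t0 →
    ∃ g : A6, g * t0 * g⁻¹ = s ∧ g * s * g⁻¹ = t0 * s := by
  decide +kernel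

set_option synthInstance.maxSize 4000 in
set_option synthInstance.maxHeartbeats 200000 in
theorem eight : ∀ s : A6, s * t0 = t0 * s → s * s = 1 → s ≠ 1 → s ≠ t0 →
    ∀ s' : A6, s' * t0 = t0 * s' → s' * s' = 1 → s' ≠ 1 → s' ≠ t0 → s' ≠ s → s' ≠ t0 * s →
      s * s' * (s * s') = t0 ∧ ∀ l : A6, l * t0 = t0 * l →
        l = 1 ∨ l = t0 ∨ l = s * s' ∨ l = s * s' * t0 ∨ l = s ∨ l = s * t0 ∨ l = s' ∨ l = s' * t0 := by
  decide +kernel

theorem five : g0 ^ 5 = 1 ∧ g0 ≠ 1 ∧ (∀ l : A6, l * g0 = g0 * l → l ^ 5 = 1) ∧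
    ∃ u : A6, u * g0 * u⁻¹ = g0⁻¹ := by
  decide +kernel

end CfsgLib.MaxSub.SLThree.Hess.Six
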