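/-
Dihedral Sylow subgroups in the Hessian situation.
-/
import Cfsg.Agent.Lib.MaxSub.SLThree.Hess.QD
import Cfsg.Agent.Lib.MaxSub.SLThree.Hess.Six
import Cfsg.Agent.Lib.DicksonFull.Subgroups
import Cfsg.Agent.S0483
import Cfsg.Agent.S0497

set_option autoImplicit false
set_option maxHeartbeats 800000
set_option linter.unusedSectionVars false
set_option linter.style.haveILetI false

namespace CfsgLib.MaxSub.SLThree.Hess

open Matrix Cfsg CfsgLib.DicksonFull

universe u

variable {F : Type u} [Field F] [Fintype F] {ω : F} {p : ℕ}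

local notation "P3" => Matrix.ProjectiveSpecialLinearGroup (Fin 3) F
local notation "A6" => Subtype (fun x => x ∈ alternatingGroup (Fin 6))

variable {h : Root ω}
variable {L : Subgroup (Matrix.ProjectiveSpecialLinearGroup (Fin 3) F)}

/-- The alternating group of degree six does not occur. -/
theorem no_six [Fact p.Prime] [CharP F p] (hp : 5 < p) (hs : Situation h L) (hc : Nat.card L = 360) :
    False := by
  classical
  haveI := hs.simple
  obtain ⟨e0⟩ := Cfsg.Agent.S0497.result hc
  -- an isomorphism taking the involution to the chosen one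
  obtain ⟨a0, ha0⟩ := Six.one_class (e0 ⟨pt, hs.mem_t⟩)
    (by rw [← map_mul, ← map_one e0]; congr 1; exact Subtype.ext pt_sq)
    (fun e => pt_ne_one hs.two (congrArg Subtype.val ((MulEquiv.map_eq_one_iff e0).1 e)))
  let em : A6 ≃* L := ((MulAut.conj a0).trans e0.symm)
  have hemt : ((em Six.t0 : L) : P3) = pt := by
    show ((e0.symm (a0 * Six.t0 * a0⁻¹) : L) : P3) = pt
    rw [ha0, MulEquiv.symm_apply_apply]
  let φ : A6 →* P3 := L.subtype.comp em.toMonoidHom
  have hφi : Function.Injective φ := L.subtype_injective.comp em.injective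
  have hφt : φ Six.t0 = pt := hemt
  have hφL : ∀ x, φ x ∈ L := fun x => (em x).2
  have hφs : ∀ y ∈ L, ∃ x, φ x = y := fun y hy => ⟨em.symm ⟨y, hy⟩, by
    show ((em (em.symm ⟨y, hy⟩) : L) : P3) = y
    rw [MulEquiv.apply_symm_apply]⟩
  have hφc : ∀ x, φ x * pt = pt * φ x → x * Six.t0 = Six.t0 * x := fun x hx => hφi (by
    rw [map_mul, map_mul, hφt, hx])
  obtain ⟨s0, hs0t, hs0, hs01, hs0ne, s0', hs0't, hs0', hs0'1, hs0'ne, hs0'ne', hs0'ne''⟩ := Six.four_exists
  obtain ⟨hsq0, hlist0⟩ := Six.eight s0 hs0t hs0 hs01 hs0ne s0' hs0't hs0' hs0'1 hs0'ne hs0'ne' hs0'ne''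
  -- one of the two Fourier elements is outside
  obtain ⟨x, hxQ, hxL, hx2⟩ : ∃ x ∈ Subgroup.closure ({pf h, pg h} : Set P3), x ∉ L ∧ x * x = pt := by
    by_contra hno
    push_neg at hno
    have hfL : pf h ∈ L := by
      by_contra hf
      exact hno _ (Subgroup.subset_closure (Or.inl rfl)) hf (pf_sq h)
    have hgL : pg h ∈ L := by
      by_contra hf
      exact hno _ (Subgroup.subset_closure (Or.inr rfl)) hf (pg_sq h)
    have hpow : ∀ y ∈ L, y * y = pt → ∃ k : Bool, y = φ (if k then s0 * s0' * Six.t0 else s0 * s0') := by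
      intro y hy hy2
      obtain ⟨l, rfl⟩ := hφs y hy
      have hl2 : l * l = Six.t0 := hφi (by rw [map_mul, hy2, hφt])
      have hlc : l * Six.t0 = Six.t0 * l := by rw [← hl2, mul_assoc]
      have h1 : Six.t0 ≠ 1 := fun e => pt_ne_one hs.two (by rw [← hφt, e, map_one])
      have ht2 : Six.t0 * Six.t0 = 1 := hφi (by rw [map_mul, hφt, pt_sq, map_one])
      have sq : ∀ z : A6, z * z = 1 → z * Six.t0 = Six.t0 * z → z * Six.t0 * (z * Six.t0) = 1 := fun z h1 h2 => by
        rw [mul_assoc, ← mul_assoc Six.t0, ← h2, mul_assoc, ht2, mul_one, h1]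
      rcases hlist0 l hlc with e | e | e | e | e | e | e | e
      · exact absurd (by rw [← hl2, e, one_mul]) h1
      · exact absurd (by rw [← hl2]; conv_lhs => rw [e, ht2]) h1
      · exact ⟨false, by rw [e]; rfl⟩
      · exact ⟨true, by rw [e]; rfl⟩
      · exact absurd (by rw [← hl2, e, hs0]) h1
      · exact absurd (by rw [← hl2, e, sq _ hs0 hs0t]) h1
      · exact absurd (by rw [← hl2, e, hs0']) h1
      · exact absurd (by rw [← hl2, e, sq _ hs0' hs0't]) h1
    obtain ⟨k, hk⟩ := hpow _ hfL (pf_sq h)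
    obtain ⟨k', hk'⟩ := hpow _ hgL (pg_sq h)
    refine f_g_ne h hs.two ?_
    rw [hk, hk', ← map_mul, ← map_mul]
    congr 1
    have hct : Commute (s0 * s0') Six.t0 :=
      ((show Commute s0 Six.t0 from hs0t).mul_left (show Commute s0' Six.t0 from hs0't))
    cases k <;> cases k' <;> simp only [if_true, if_false, Bool.false_eq_true]
    · exact ((Commute.refl _).mul_right hct).eq
    · exact ((Commute.refl _).mul_left hct.symm).eq
  have hxt : x * pt = pt * x := comm_pt_of_mem h hxQ
  -- no element of the coset centralises a four-group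
  have noCent : ∀ (a : P3) (s : A6), a ∉ L → (∀ y ∈ L, a * y * a⁻¹ ∈ L) → a * a ∈ L → a * pt = pt * a →
      s * Six.t0 = Six.t0 * s → s * s = 1 → s ≠ 1 → s ≠ Six.t0 → a * φ s = φ s * a → False := by
    intro a s haL han ha2 hat hst hs2 hs1 hsne has
    have hd1 : φ s * φ s = 1 := by rw [← map_mul, hs2, map_one]
    have hdne1 : φ s ≠ 1 := fun e => hs1 (hφi (e.trans (map_one φ).symm))
    have hdne : φ s ≠ pt := fun e => hsne (hφi (e.trans hφt.symm))
    have hdt : φ s * pt = pt * φ s := by rw [← hφt, ← map_mul, ← map_mul, hst]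
    have hV : ∀ y ∈ L, y * pt = pt * y → y * φ s = φ s * y → y = 1 ∨ y = pt ∨ y = φ s ∨ y = pt * φ s := by
      intro y hy h1 h2
      obtain ⟨l, rfl⟩ := hφs y hy
      rcases Six.four_cent s hst hs2 hs1 hsne l (hφc l h1) (hφi (by rw [map_mul, map_mul, h2])) with
        e | e | e | e <;> rw [e]
      · exact Or.inl (map_one φ)
      · exact Or.inr (Or.inl hφt)
      · exact Or.inr (Or.inr (Or.inl rfl))
      · exact Or.inr (Or.inr (Or.inr (by rw [map_mul, hφt])))
    obtain ⟨g, hgt, hgs⟩ := Six.four_rotate s hst hs2 hs1 hsne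
    have hG1 : φ g * pt * (φ g)⁻¹ = φ s := by rw [← hφt, ← map_inv, ← map_mul, ← map_mul, hgt]
    have hG2 : φ g * φ s * (φ g)⁻¹ = pt * φ s := by rw [← hφt, ← map_inv, ← map_mul, ← map_mul, hgs, map_mul]
    set b := φ g * a * (φ g)⁻¹ with hb
    have hbs : b * φ s = φ s * b := by
      rw [hb, ← hG1, _root_.conj_mul, hat, ← _root_.conj_mul]
    have hbts : b * (pt * φ s) = pt * φ s * b := by
      rw [hb, ← hG2, _root_.conj_mul, has, ← _root_.conj_mul]
    have hbt : b * pt = pt * b := by
      have e : (pt : P3) = pt * φ s * φ s := by rw [mul_assoc, hd1, mul_one]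
      have := (show Commute b (pt * φ s) from hbts).mul_right (show Commute b (φ s) from hbs)
      rw [← e] at this
      exact this.eq
    have hab : a * b = b * a := cent_four hs.two pt_sq (pt_ne_one hs.two) hd1 hdne1 hdt.symm hdne.symm hat.symm
      has.symm hbt.symm hbs.symm
    -- the square is fixed by the rotation
    set v := a⁻¹ * b with hv
    have hvL : v ∈ L := by
      have h1 : a⁻¹ * φ g * a ∈ L := by
        have h2 := han _ (hφL g)
        have h3 := mul_mem (mul_mem (inv_mem ha2) (han _ (hφL g))) ha2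
        rwa [show (a * a)⁻¹ * (a * φ g * a⁻¹) * (a * a) = a⁻¹ * φ g * a by group] at h3
      rw [hv, hb, show a⁻¹ * (φ g * a * (φ g)⁻¹) = (a⁻¹ * φ g * a) * (φ g)⁻¹ by group]
      exact mul_mem h1 (inv_mem (hφL g))
    have hvt : v * pt = pt * v := ((show Commute a pt from hat).inv_left.mul_left hbt).eq
    have hvs : v * φ s = φ s * v := ((show Commute a (φ s) from has).inv_left.mul_left hbs).eq
    have hv2 : v * v = 1 := by
      rcases hV v hvL hvt hvs with e | e | e | e <;> rw [e]
      · exact one_mul 1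
      · exact pt_sq
      · exact hd1
      · rw [mul_assoc, ← mul_assoc (φ s), hdt, mul_assoc, hd1, mul_one, pt_sq]
    have hbb : b * b = a * a := by
      have h1 : b = a * v := by rw [hv]; group
      have hc : Commute a v := (Commute.refl a).inv_right.mul_right hab
      rw [h1, mul_assoc, ← mul_assoc v, ← hc.eq, mul_assoc, hv2, mul_one]
    have hfix : φ g * (a * a) * (φ g)⁻¹ = a * a := by
      nth_rw 2 [← hbb]
      rw [hb]
      group
    have ha1 : a * a = 1 := by
      have hat2 : a * a * pt = pt * (a * a) := ((show Commute a pt from hat).mul_left hat).eq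
      have has2 : a * a * φ s = φ s * (a * a) := ((show Commute a (φ s) from has).mul_left has).eq
      have cancel : ∀ y z : P3, φ g * y * (φ g)⁻¹ = φ g * z * (φ g)⁻¹ → y = z := fun y z e =>
        mul_left_cancel (mul_right_cancel e)
      rcases hV _ ha2 hat2 has2 with e | e | e | e
      · exact e
      · rw [e, hG1] at hfix; exact absurd hfix hdne
      · rw [e, hG2] at hfix
        exact absurd (mul_eq_right.1 hfix) (pt_ne_one hs.two)
      · rw [e, ← _root_.conj_mul, hG1, hG2, ← mul_assoc, hdt, mul_assoc, hd1, mul_one] at hfix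
        exact absurd (mul_eq_left.1 hfix.symm) hdne1
    -- too large an elementary abelian group
    have hgen : ∀ x ∈ ({pt, φ s, a} : Set P3), ∀ y ∈ ({pt, φ s, a} : Set P3), x * y = y * x := by
      rintro x (rfl | rfl | rfl) y (rfl | rfl | rfl) <;>
        first | rfl | exact hdt | exact hdt.symm | exact hat | exact hat.symm | exact has | exact has.symm
    haveI hBc := Subgroup.isMulCommutative_closure hgen
    set B := Subgroup.closure ({pt, φ s, a} : Set P3)
    have hBcomm : ∀ x ∈ B, ∀ y ∈ B, x * y = y * x := fun x hx y hy =>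
      congrArg Subtype.val (hBc.is_comm.comm ⟨x, hx⟩ ⟨y, hy⟩)
    have hsq : ∀ x ∈ B, x * x = 1 := by
      intro x hx
      induction hx using Subgroup.closure_induction with
      | mem y hy =>
        rcases hy with rfl | rfl | rfl
        · exact pt_sq
        · exact hd1
        · exact ha1
      | one => simp
      | mul y z hy hz h1 h2 => rw [mul_assoc, ← mul_assoc z, hBcomm z hz y hy, mul_assoc, h2, mul_one, h1]
      | inv y _ h1 => rw [← _root_.mul_inv_rev, h1, inv_one]
    let f : Option (Bool × Bool) → B := fun t =>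
      match t with
      | none => ⟨a, Subgroup.subset_closure (by simp)⟩
      | some (i, k) => ⟨(if i then pt else 1) * (if k then φ s else 1), by
          refine mul_mem ?_ ?_ <;> split <;>
            first | exact one_mem _ | exact Subgroup.subset_closure (by simp)⟩
    have hf : Function.Injective f := by
      have hL : ∀ i k : Bool, (if i then (pt : P3) else 1) * (if k then φ s else 1) ≠ a := fun i k e =>
        haL (e ▸ mul_mem (by split <;> first | exact one_mem _ | exact hs.mem_t)
          (by split <;> first | exact one_mem _ | exact hφL s))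
      have hne' : (pt : P3) * φ s ≠ 1 := fun e => hdne (by
        rw [← mul_left_cancel_iff (a := (pt : P3)), pt_sq, e])
      rintro (_ | ⟨i, k⟩) (_ | ⟨i', k'⟩) e <;> have e' := congrArg Subtype.val e <;> simp only [f] at e'
      · rfl
      · exact absurd e'.symm (hL _ _)
      · exact absurd e' (hL _ _)
      · cases i <;> cases k <;> cases i' <;> cases k' <;>
          simp only [if_true, if_false, Bool.false_eq_true, one_mul, mul_one] at e' <;>
          first
            | rfl
            | exact absurd e' hdne | exact absurd e'.symm hdne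
            | exact absurd e' hdne1 | exact absurd e'.symm hdne1
            | exact absurd e' (pt_ne_one hs.two) | exact absurd e'.symm (pt_ne_one hs.two)
            | exact absurd e' hne' | exact absurd e'.symm hne'
            | exact absurd (mul_eq_left.1 e') hdne1 | exact absurd (mul_eq_left.1 e'.symm) hdne1
            | exact absurd (mul_eq_right.1 e') (pt_ne_one hs.two)
            | exact absurd (mul_eq_right.1 e'.symm) (pt_ne_one hs.two)
    have h1 := Nat.card_le_card_of_injective f hf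
    have h2 := rank_two hs.two hBcomm hsq
    have h3 : Nat.card (Option (Bool × Bool)) = 5 := by simp
    omega
  -- no involution in the coset
  have noInvol : ∀ j : P3, j ∉ L → j * j = 1 → (∃ l ∈ L, j = l * x) → False := by
    intro j hjL hj2 hjx
    obtain ⟨l₀, hl₀, hjeq⟩ := hjx
    have hjn : ∀ y ∈ L, j * y * j⁻¹ ∈ L := fun y hy => by
      rw [hjeq, show l₀ * x * y * (l₀ * x)⁻¹ = l₀ * (x * y * x⁻¹) * l₀⁻¹ by group]
      exact mul_mem (mul_mem hl₀ (hs.stable x hxQ y hy)) (inv_mem hl₀)
    have hji : j⁻¹ = j := inv_eq_of_mul_eq_one_right hj2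
    let I := {y : A6 // y * y = 1 ∧ y ≠ 1}
    have hI : Fintype.card I = 45 := by rw [Fintype.card_subtype]; exact Six.odd_involutions
    have hconj : ∀ y : A6, ∃ z : A6, φ z = j * φ y * j⁻¹ := fun y => hφs _ (hjn _ (hφL y))
    choose σ hσ using hconj
    let τ : I → I := fun y => ⟨σ y.1, hφi (by
        rw [map_mul, hσ, _root_.conj_mul, ← map_mul, y.2.1, map_one]; group),
      fun e => y.2.2 (hφi (by
        have := hσ y.1
        rw [e, map_one] at this
        rw [map_one]
        exact conj_eq_one_iff.1 this.symm))⟩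
    have hτ : Function.Involutive τ := fun y => Subtype.ext (hφi (by
      show φ (σ (σ y.1)) = φ y.1
      rw [hσ, hσ]
      calc j * (j * φ y.1 * j⁻¹) * j⁻¹ = (j * j) * φ y.1 * (j * j)⁻¹ := by group
        _ = φ y.1 := by rw [hj2]; group))
    haveI : Fact (Nat.Prime 2) := ⟨Nat.prime_two⟩
    obtain ⟨y, hy⟩ := Equiv.Perm.exists_fixed_point_of_prime (p := 2) (n := 1)
      (σ := hτ.toPerm) (by omega) (by ext z; simp [pow_two, hτ z])
    have hyj : j * φ y.1 * j⁻¹ = φ y.1 := by rw [← hσ]; exact congrArg φ (congrArg Subtype.val hy)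
    obtain ⟨c, hc⟩ := Six.one_class y.1 y.2.1 y.2.2
    set j' := (φ c)⁻¹ * j * φ c with hj'
    have hj't : j' * pt = pt * j' := by
      have h1 : φ y.1 = φ c * pt * (φ c)⁻¹ := by rw [← hc, map_mul, map_mul, map_inv, hφt]
      have h2 : j * φ y.1 = φ y.1 * j := mul_inv_eq_iff_eq_mul.1 hyj
      rw [h1] at h2
      calc j' * pt = (φ c)⁻¹ * (j * (φ c * pt * (φ c)⁻¹)) * φ c := by rw [hj']; group
        _ = (φ c)⁻¹ * ((φ c * pt * (φ c)⁻¹) * j) * φ c := by rw [h2]
        _ = pt * j' := by rw [hj']; group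
    have hj'2 : j' * j' = 1 := by
      rw [hj', show (φ c)⁻¹ * j * φ c * ((φ c)⁻¹ * j * φ c) = (φ c)⁻¹ * (j * j) * φ c by group, hj2]; group
    have hj'L : j' ∉ L := fun hh => hjL (by
      have := mul_mem (mul_mem (hφL c) hh) (inv_mem (hφL c))
      rwa [hj', show φ c * ((φ c)⁻¹ * j * φ c) * (φ c)⁻¹ = j by group] at this)
    have hj'n : ∀ y ∈ L, j' * y * j'⁻¹ ∈ L := fun y hy => by
      rw [hj', show (φ c)⁻¹ * j * φ c * y * ((φ c)⁻¹ * j * φ c)⁻¹ =
        (φ c)⁻¹ * (j * (φ c * y * (φ c)⁻¹) * j⁻¹) * φ c by group]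
      exact mul_mem (mul_mem (inv_mem (hφL c)) (hjn _ (mul_mem (mul_mem (hφL c) hy) (inv_mem (hφL c)))))
        (hφL c)
    obtain ⟨s1, hs1⟩ := hφs _ (hj'n _ (hφL s0))
    have hs1t : s1 * Six.t0 = Six.t0 * s1 := hφc _ (by
      rw [hs1]
      exact (((show Commute j' pt from hj't).mul_left
        (show Commute (φ s0) pt by rw [← hφt]; exact (show Commute s0 Six.t0 from hs0t).map φ)).mul_left
        (show Commute j' pt from hj't).inv_left).eq)
    have hs12 : s1 * s1 = 1 := hφi (by rw [map_mul, hs1, _root_.conj_mul, ← map_mul, hs0, map_one]; group)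
    have hs11 : s1 ≠ 1 := fun e => hs01 (hφi (by
      rw [e, map_one] at hs1
      rw [map_one]
      exact conj_eq_one_iff.1 hs1.symm))
    have hjinv : j'⁻¹ = j' := inv_eq_of_mul_eq_one_right hj'2
    have hs1ne : s1 ≠ Six.t0 := fun e => hs0ne (hφi (by
      rw [e, hφt] at hs1
      rw [hφt]
      calc φ s0 = j'⁻¹ * (j' * φ s0 * j'⁻¹) * j' := by group
        _ = j'⁻¹ * (pt * j') := by rw [← hs1]; group
        _ = pt := by rw [← hj't]; group))
    by_cases h1 : s1 = s0
    · refine noCent j' s0 hj'L hj'n (by rw [hj'2]; exact one_mem L) hj't hs0t hs0 hs01 hs0ne ?_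
      rw [h1] at hs1
      exact mul_inv_eq_iff_eq_mul.1 hs1.symm
    by_cases h2 : s1 = Six.t0 * s0
    · have hswap : φ s0' * φ s1 * (φ s0')⁻¹ = φ s0 := by
        rw [← map_inv, ← map_mul, ← map_mul, h2]
        congr 1
        have e1 : s0'⁻¹ = s0' := inv_eq_of_mul_eq_one_right hs0'
        rw [e1]
        calc s0' * (Six.t0 * s0) * s0' = Six.t0 * (s0' * s0 * s0') := by
              rw [← mul_assoc, hs0't]; simp only [mul_assoc]
          _ = Six.t0 * (s0 * s0 * (s0' * s0 * s0')) := by rw [hs0, one_mul]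
          _ = Six.t0 * (s0 * (s0 * s0' * (s0 * s0'))) := by simp only [mul_assoc]
          _ = s0 := by
            rw [hsq0, hs0t, ← mul_assoc, show Six.t0 * Six.t0 = 1 from hφi (by rw [map_mul, hφt, pt_sq, map_one]),
              one_mul]
      refine noCent (φ s0' * j') s0 (fun hh => hj'L ?_) (fun y hy => ?_) ?_ ?_ hs0t hs0 hs01 hs0ne ?_
      · have := mul_mem (inv_mem (hφL s0')) hh
        rwa [inv_mul_cancel_left] at this
      · rw [show φ s0' * j' * y * (φ s0' * j')⁻¹ = φ s0' * (j' * y * j'⁻¹) * (φ s0')⁻¹ by group]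
        exact mul_mem (mul_mem (hφL s0') (hj'n y hy)) (inv_mem (hφL s0'))
      · rw [show φ s0' * j' * (φ s0' * j') = φ s0' * (j' * φ s0' * j') by group]
        nth_rw 2 [← hjinv]
        exact mul_mem (hφL s0') (hj'n _ (hφL s0'))
      · exact ((show Commute (φ s0') pt by rw [← hφt]; exact (show Commute s0' Six.t0 from hs0't).map φ).mul_left
          hj't).eq
      · rw [← mul_inv_eq_iff_eq_mul, show φ s0' * j' * φ s0 * (φ s0' * j')⁻¹ =
          φ s0' * (j' * φ s0 * j'⁻¹) * (φ s0')⁻¹ by group, ← hs1]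
        exact hswap
    obtain ⟨hsq, hlist⟩ := Six.eight s0 hs0t hs0 hs01 hs0ne s1 hs1t hs12 hs11 hs1ne h1 h2
    -- `x` lies in the coset of `j'`
    obtain ⟨l, hl⟩ : ∃ l : A6, x = φ l * j' := by
      obtain ⟨l, hl⟩ := hφs (x * j'⁻¹) (by
        have h3 : x * j⁻¹ ∈ L := by rw [hjeq, show x * (l₀ * x)⁻¹ = l₀⁻¹ by group]; exact inv_mem hl₀
        have h4 : j * j'⁻¹ ∈ L := by
          rw [hj', show j * ((φ c)⁻¹ * j * φ c)⁻¹ = (j * (φ c)⁻¹ * j⁻¹) * φ c by group]
          exact mul_mem (hjn _ (inv_mem (hφL c))) (hφL c)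
        have := mul_mem h3 h4
        rwa [show x * j⁻¹ * (j * j'⁻¹) = x * j'⁻¹ by group] at this)
      exact ⟨l, by rw [hl]; group⟩
    have hlt : l * Six.t0 = Six.t0 * l := hφc _ (by
      have : φ l = x * j'⁻¹ := by rw [hl]; group
      rw [this]
      exact ((show Commute x pt from hxt).mul_left (show Commute j' pt from hj't).inv_left).eq)
    obtain ⟨l', hl'⟩ := hφs _ (hj'n _ (hφL l))
    have hmul : l * l' = Six.t0 := hφi (by
      rw [map_mul, hl', hφt, ← hx2, hl]
      conv_lhs => rw [hjinv]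
      simp only [mul_assoc])
    have hI : ∀ y z : A6, φ y = j' * φ z * j'⁻¹ → φ z = j' * φ y * j'⁻¹ := fun y z e => by
      rw [e]
      calc φ z = (j' * j') * φ z * (j' * j')⁻¹ := by rw [hj'2]; group
        _ = _ := by group
    have es1 : j' * φ s1 * j'⁻¹ = φ s0 := (hI _ _ hs1).symm
    have et : j' * pt * j'⁻¹ = pt := by rw [hj't]; group
    have ht2 : Six.t0 * Six.t0 = 1 := hφi (by rw [map_mul, hφt, pt_sq, map_one])
    have htne : Six.t0 ≠ 1 := fun e => pt_ne_one hs.two (by rw [← hφt, e, map_one])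
    have hc01 : Commute (s0 * s1) Six.t0 :=
      (show Commute s0 Six.t0 from hs0t).mul_left (show Commute s1 Six.t0 from hs1t)
    have img : ∀ m m' : A6, j' * φ m * j'⁻¹ = φ m' → l = m → m * m' = Six.t0 := fun m m' e em' => by
      have : l' = m' := hφi (by rw [hl', em', e])
      rw [← this, ← em']; exact hmul
    rcases hlist l hlt with e | e | e | e | e | e | e | e
    · exact htne (by rw [← img 1 1 (by rw [map_one]; group) e, one_mul])
    · exact htne (by rw [← img Six.t0 Six.t0 (by rw [hφt]; exact et) e, ht2])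
    · refine htne ?_
      rw [← img _ (s1 * s0) (by rw [map_mul, ← _root_.conj_mul, ← hs1, es1, map_mul]) e, mul_assoc,
        ← mul_assoc s1, hs12, one_mul, hs0]
    · refine htne ?_
      rw [← img _ (s1 * s0 * Six.t0) (by rw [map_mul, map_mul, ← _root_.conj_mul, ← _root_.conj_mul, ← hs1,
        es1, hφt, et, map_mul, map_mul, hφt]) e]
      calc s0 * s1 * Six.t0 * (s1 * s0 * Six.t0) = s0 * s1 * ((Six.t0 * (s1 * s0)) * Six.t0) := by
            simp only [mul_assoc]
        _ = s0 * s1 * ((s1 * s0 * Six.t0) * Six.t0) := by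
            rw [((show Commute s1 Six.t0 from hs1t).mul_left (show Commute s0 Six.t0 from hs0t)).eq]
        _ = 1 := by
            rw [mul_assoc (s1 * s0), ht2, mul_one, mul_assoc, ← mul_assoc s1, hs12, one_mul, hs0]
    · have e2 := img s0 s1 hs1.symm e
      rw [e2, ht2] at hsq
      exact htne hsq.symm
    · have e2 := img _ (s1 * Six.t0) (by rw [map_mul, ← _root_.conj_mul, ← hs1, hφt, et, map_mul, hφt]) e
      rw [show s0 * Six.t0 * (s1 * Six.t0) = s0 * s1 * (Six.t0 * Six.t0) by
        rw [mul_assoc, ← mul_assoc Six.t0, ← hs1t]; simp only [mul_assoc], ht2, mul_one] at e2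
      rw [e2, ht2] at hsq
      exact htne hsq.symm
    · have e2 := img s1 s0 es1 e
      have e3 : s0 * s1 = Six.t0 := by
        calc s0 * s1 = (s1 * s0)⁻¹ := by
              rw [_root_.mul_inv_rev, inv_eq_of_mul_eq_one_right hs0, inv_eq_of_mul_eq_one_right hs12]
          _ = Six.t0 := by rw [e2]; exact inv_eq_of_mul_eq_one_right ht2
      rw [e3, ht2] at hsq
      exact htne hsq.symm
    · have e2 := img _ (s0 * Six.t0) (by rw [map_mul, ← _root_.conj_mul, es1, hφt, et, map_mul, hφt]) e
      rw [show s1 * Six.t0 * (s0 * Six.t0) = s1 * s0 * (Six.t0 * Six.t0) by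
        rw [mul_assoc, ← mul_assoc Six.t0, ← hs0t]; simp only [mul_assoc], ht2, mul_one] at e2
      have e3 : s0 * s1 = Six.t0 := by
        calc s0 * s1 = (s1 * s0)⁻¹ := by
              rw [_root_.mul_inv_rev, inv_eq_of_mul_eq_one_right hs0, inv_eq_of_mul_eq_one_right hs12]
          _ = Six.t0 := by rw [e2]; exact inv_eq_of_mul_eq_one_right ht2
      rw [e3, ht2] at hsq
      exact htne hsq.symm
  -- an element of the coset normalising a subgroup of order five
  obtain ⟨hg5, hg1, hgc, u, hu⟩ := Six.five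
  haveI : Fact (Nat.Prime 5) := ⟨by norm_num⟩
  set g := φ Six.g0 with hg
  have hgne : g ≠ 1 := fun e => hg1 (hφi (e.trans (map_one φ).symm))
  have hg5' : g ^ 5 = 1 := by rw [hg, ← map_pow, hg5, map_one]
  obtain ⟨z, hz⟩ := hφs _ (hs.stable x hxQ _ (hφL Six.g0))
  have hz5 : z ^ 5 = 1 := hφi (by rw [map_pow, hz, conj_pow, ← hg, hg5', map_one]; group)
  have hz1 : z ≠ 1 := fun e => hgne (by rw [e, map_one] at hz; exact conj_eq_one_iff.1 hz.symm)
  have hcA : Nat.card A6 = 360 := (Nat.card_congr em.toEquiv).trans hc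
  have hsyl : ∀ w : A6, w ^ 5 = 1 → w ≠ 1 → Nat.card (Subgroup.zpowers w) = 5 ^ (Nat.card A6).factorization 5 := by
    intro w hw5 hw1
    rw [Nat.card_zpowers, orderOf_eq_prime hw5 hw1, hcA]
    have : (360 : ℕ).factorization 5 = 1 := by
      rw [show (360 : ℕ) = 5 * 72 by norm_num, Nat.factorization_mul (by norm_num) (by norm_num)]
      simp [Nat.Prime.factorization (show Nat.Prime 5 by norm_num),
        Nat.factorization_eq_zero_of_not_dvd (show ¬ 5 ∣ 72 by norm_num)]
    rw [this, pow_one]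
  obtain ⟨a, ha⟩ := MulAction.exists_smul_eq A6 (Sylow.ofCard _ (hsyl z hz5 hz1))
    (Sylow.ofCard _ (hsyl _ hg5 hg1))
  have hmem : a * z * a⁻¹ ∈ Subgroup.zpowers Six.g0 := by
    have : a * z * a⁻¹ ∈ ((Sylow.ofCard _ (hsyl _ hg5 hg1) : Sylow 5 A6) : Subgroup A6) := by
      rw [← ha]
      refine ⟨z, ?_, rfl⟩
      rw [Sylow.coe_ofCard]
      exact Subgroup.mem_zpowers z
    rwa [Sylow.coe_ofCard] at this
  obtain ⟨i, hi, hi'⟩ : ∃ i : ℕ, i < 5 ∧ a * z * a⁻¹ = Six.g0 ^ i := by
    obtain ⟨k, hk⟩ := mem_powers_iff_mem_zpowers.2 hmem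
    exact ⟨k % 5, Nat.mod_lt _ (by norm_num), by rw [← hk]; exact pow_eq_pow_mod k hg5⟩
  -- the possible exponents
  have hn : ∀ (n : P3), n * g * n⁻¹ = g → (∃ l ∈ L, n = l * x) → False := by
    rintro n hng ⟨l, hlL, hnx⟩
    have hx' : x * l * x⁻¹ ∈ L := hs.stable x hxQ l hlL
    have hn2 : n ^ 2 ∈ L := by
      rw [pow_two, hnx, show l * x * (l * x) = l * (x * l * x⁻¹) * (x * x) by group, hx2]
      exact mul_mem (mul_mem hlL hx') hs.mem_t
    have hnL : n ∉ L := fun hh => hxL (by
      have := mul_mem (inv_mem hlL) hh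
      rwa [hnx, inv_mul_cancel_left] at this)
    have hn10 : n ^ 10 = 1 := by
      obtain ⟨m, hm⟩ := hφs _ hn2
      have hmc : m * Six.g0 = Six.g0 * m := hφi (by
        rw [map_mul, map_mul, hm, ← hg]
        exact ((show Commute n g from mul_inv_eq_iff_eq_mul.1 hng).pow_left 2).eq)
      rw [show 10 = 2 * 5 by norm_num, pow_mul, ← hm, ← map_pow, hgc m hmc, map_one]
    refine noInvol (n ^ 5) (fun hh => hnL ?_) (by rw [← pow_add]; exact hn10) ⟨(n ^ 2) ^ 2 * l, ?_, ?_⟩
    · have := mul_mem (inv_mem (pow_mem hn2 2)) hh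
      rwa [show ((n ^ 2) ^ 2)⁻¹ * n ^ 5 = n by group] at this
    · exact mul_mem (pow_mem hn2 2) hlL
    · rw [mul_assoc, ← hnx]; group
  have hnL : ∃ l ∈ L, φ a * x = l * x := ⟨_, hφL a, rfl⟩
  have hconj : φ a * x * g * (φ a * x)⁻¹ = g ^ i := by
    rw [show φ a * x * g * (φ a * x)⁻¹ = φ a * (x * g * x⁻¹) * (φ a)⁻¹ by group, hg, ← hz, ← map_inv,
      ← map_mul, ← map_mul, hi', map_pow]
  interval_cases i
  · rw [pow_zero] at hconj
    exact hgne (conj_eq_one_iff.1 hconj)
  · rw [pow_one] at hconj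
    exact hn _ hconj hnL
  · exact hgne (five (p := p) hp hg5' hconj)
  · -- the inverse squares
    set n := φ a * x
    refine hgne (five (p := p) hp (c := n⁻¹) hg5' ?_)
    have h6 : g ^ 6 = g := by rw [show 6 = 5 + 1 by norm_num, pow_add, hg5', one_mul, pow_one]
    have h2 : n * g ^ 2 * n⁻¹ = g := by
      rw [← conj_pow, hconj, ← pow_mul]; exact h6
    calc n⁻¹ * g * n⁻¹⁻¹ = n⁻¹ * (n * g ^ 2 * n⁻¹) * n⁻¹⁻¹ := by rw [h2]
      _ = g ^ 2 := by group
  · refine hn (φ u * (φ a * x)) ?_ ⟨φ u * φ a, mul_mem (hφL u) (hφL a), by rw [mul_assoc]⟩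
    rw [show φ u * (φ a * x) * g * (φ u * (φ a * x))⁻¹ = φ u * (φ a * x * g * (φ a * x)⁻¹) * (φ u)⁻¹ by group,
      hconj, ← conj_pow, hg, ← map_inv, ← map_mul, ← map_mul, hu, map_inv, inv_pow]
    refine inv_eq_of_mul_eq_one_right ?_
    rw [← hg, ← pow_succ]
    exact hg5'

/-- Dihedral Sylow subgroups do not occur. -/
theorem no_dihedral [Fact p.Prime] [CharP F p] (hp : 5 < p) (hs : Situation h L)
    (hC : ∀ a : P3, (∀ e ∈ E h, a * e = e * a) → a ∈ E h)
    (S : Sylow 2 L) (n : ℕ) (hn : 2 ≤ n) (e : (S : Subgroup L) ≃* DihedralGroup n) : False := by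
  classical
  haveI := hs.simple
  haveI : Group.IsPerfect L := ⟨by
    rcases (inferInstance : (commutator L).Normal).eq_bot_or_eq_top with e | e
    · exact absurd ((commutator_eq_bot_iff L).mp e) hs.noncomm
    · exact e⟩
  have hO : oddCore L = ⊥ := (inferInstance : (oddCore L).Normal).eq_bot_or_eq_top.resolve_right fun e => by
    have hcard : Odd (Nat.card (Cfsg.pPrimeCore 2 L)) :=
      Nat.coprime_two_right.1 (CfsgLib.card_pPrimeCore_coprime 2)
    change Cfsg.pPrimeCore 2 L = ⊤ at e
    rw [e, Subgroup.card_top] at hcard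
    exact Nat.not_odd_iff_even.2 hs.even hcard
  let q : L ⧸ oddCore L ≃* L := (QuotientGroup.quotientMulEquivOfEq hO).trans QuotientGroup.quotientBot
  rcases Cfsg.Agent.S0483.result S n hn ⟨e⟩ with ⟨F0, hF0, hF0', hodd, h3, ⟨f⟩⟩ | h7
  · let φ : L ≃* Matrix.ProjectiveSpecialLinearGroup (Fin 2) F0 := q.symm.trans f
    set r := ringChar F0 with hr
    haveI : Fact r.Prime := ⟨CharP.char_is_prime F0 r⟩
    set a : L := ⟨px h, hs.mem_E (px_mem h)⟩ with ha
    have ha1 : φ a ≠ 1 := fun e => px_ne_one h (congrArg Subtype.val ((MulEquiv.map_eq_one_iff φ).1 e))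
    set EL := (E h).subgroupOf L with hEL
    have hEL9 : Nat.card EL = 9 := by
      rw [hEL, Nat.card_congr (Subgroup.subgroupOfEquivOfLe hs.mem_E).toEquiv, E_card]
    have hELc : ∀ b ∈ EL, b * a = a * b := fun b hb => Subtype.ext (E_comm h hb (px_mem h))
    have hEL3 : ∀ b ∈ EL, b ^ 3 = 1 := fun b hb => Subtype.ext (by simpa using E_cube h hb)
    rcases (psl (F := F0) r).order_cases _ ha1 with hss | hu
    · -- the image would be cyclic
      have hmem : ∀ b ∈ EL, φ b ∈ (psl (F := F0) r).T (φ a) := by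
        intro b hb
        by_contra hbT
        have hfix : φ b * φ a * (φ b)⁻¹ = φ a := by
          rw [← map_mul, hELc b hb, map_mul, mul_inv_cancel_right]
        have hinv := ((psl (F := F0) r).T_norm _ _ hss (by rw [hfix]; exact (psl (F := F0) r).mem_T _ hss) hbT).1 _
          ((psl (F := F0) r).mem_T _ hss)
        rw [hfix] at hinv
        have h2 : φ a * φ a = 1 := by
          nth_rw 2 [hinv]
          exact mul_inv_cancel _
        have h3' : φ a ^ 3 = 1 := by rw [← map_pow, hEL3 a (px_mem h), map_one]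
        rw [pow_succ, pow_two, h2, one_mul] at h3'
        exact ha1 h3'
      haveI := (psl (F := F0) r).T_cyclic _ hss
      letI := Fintype.ofFinite ((psl (F := F0) r).T (φ a))
      let ψ : EL → {x : (psl (F := F0) r).T (φ a) // x ^ 3 = 1} := fun b =>
        ⟨⟨φ b.1, hmem b.1 b.2⟩, Subtype.ext (by
          show φ b.1 ^ 3 = 1
          rw [← map_pow, hEL3 b.1 b.2, map_one])⟩
      have hψ : Function.Injective ψ := fun b c e => Subtype.ext (φ.injective
        (congrArg Subtype.val (congrArg Subtype.val e)))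
      have h1 := Nat.card_le_card_of_injective ψ hψ
      have h2 := IsCyclic.card_pow_eq_one_le (α := (psl (F := F0) r).T (φ a)) (n := 3) (by norm_num)
      rw [hEL9, Nat.card_eq_fintype_card, Fintype.card_subtype] at h1
      omega
    · -- the centraliser has order nine
      have hcE : Nat.card (cent (φ a)) = 9 := by
        rw [← hEL9]
        have heq : cent (φ a) = EL.map φ.toMonoidHom := by
          ext y
          constructor
          · intro hy
            refine ⟨φ.symm y, ?_, φ.apply_symm_apply y⟩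
            refine hC _ fun e he => ?_
            have he' : φ ⟨e, hs.mem_E he⟩ * φ a = φ a * φ ⟨e, hs.mem_E he⟩ := by
              rw [← map_mul, ← map_mul]
              exact congrArg φ (Subtype.ext (E_comm h he (px_mem h)))
            have h1 := ((psl (F := F0) r).u_cen (φ a) y _ hu (Subgroup.mem_centralizer_singleton_iff.1 hy)
              he').1
            have h2 : φ.symm y * ⟨e, hs.mem_E he⟩ = ⟨e, hs.mem_E he⟩ * φ.symm y := φ.injective (by
              rw [map_mul, map_mul, φ.apply_symm_apply]; exact h1.eq)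
            exact congrArg Subtype.val h2
          · rintro ⟨b, hb, rfl⟩
            rw [cent, Subgroup.mem_centralizer_singleton_iff]
            show φ b * φ a = φ a * φ b
            rw [← map_mul, ← map_mul, hELc b hb]
        rw [heq, Subgroup.card_map_of_injective φ.injective]
      rw [CfsgLib.DicksonFull.card_cent r hu] at hcE
      have hgcd : Nat.gcd 2 (Fintype.card F0 - 1) = 2 := by rw [hcE]; rfl
      have hcard := CfsgLib.DicksonFull.card_psl (F := F0)
      rw [hgcd, hcE, ← Nat.card_congr φ.toEquiv] at hcard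
      exact no_six hp hs (by omega)
  · obtain ⟨f7⟩ := h7
    let φ : L ≃* alternatingGroup (Fin 7) := q.symm.trans f7
    obtain ⟨h5, h1, hc⟩ := Six.seven
    refine h1 ?_
    have h5' : ((φ.symm Six.g7 : L) : P3) ^ 5 = 1 := by
      rw [← SubmonoidClass.coe_pow, ← map_pow, h5, map_one]; rfl
    have hc' : ((φ.symm Six.c7 : L) : P3) * (φ.symm Six.g7 : L) * ((φ.symm Six.c7 : L) : P3)⁻¹ =
        ((φ.symm Six.g7 : L) : P3) ^ 2 := by
      have := congrArg (fun y : L => (y : P3)) (congrArg φ.symm hc)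
      simpa using this
    have := five (p := p) hp h5' hc'
    exact φ.symm.injective ((Subtype.ext this : φ.symm Six.g7 = 1).trans (map_one φ.symm).symm)

end CfsgLib.MaxSub.SLThree.Hess
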