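/-
A proper subgroup of `PSL(3, p)` containing the Hessian configuration normalises the group of order nine.
-/
import Cfsg.Agent.Lib.MaxSub.SLThree.Hess.Small
import Cfsg.Agent.Lib.CoprimeGen
import Cfsg.Agent.S0516
import Mathlib.FieldTheory.Finite.GaloisField

set_option autoImplicit false
set_option maxHeartbeats 800000
set_option linter.unusedSectionVars false
set_option linter.style.haveILetI false

namespace CfsgLib.MaxSub.SLThree.Hess

open Matrix Cfsg

universe u

section rels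

variable {F : Type u} [Field F] {ω : F}

local notation "P3" => Matrix.ProjectiveSpecialLinearGroup (Fin 3) F

theorem FG (h : Root ω) : Fm ω * Gm ω = (Tm : Matrix (Fin 3) (Fin 3) F) * (Gm ω * Fm ω) := by
  rw [Fm, Gm]
  simp only [Matrix.smul_mul, Matrix.mul_smul, smul_smul]
  congr 1
  have h3 := h.cube
  have he := h.eq
  ext i j
  fin_cases i <;> fin_cases j <;>
    (simp only [Matrix.mul_apply, Fin.sum_univ_three, Tm]; simp) <;> grind

theorem f_g (h : Root ω) : pf h * pg h = (pt * (pg h * pf h) : P3) := by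
  rw [pf, pg, pt, ← map_mul, ← map_mul, ← map_mul]
  exact mk_congr (FG h)

theorem g_f (h : Root ω) : pg h * pf h * (pg h)⁻¹ = ((pf h)⁻¹ : P3) := by
  have h1 := f_g h
  have h2 : pg h * pf h = (pt : P3)⁻¹ * (pf h * pg h) := by rw [h1]; group
  rw [h2, ← pf_sq h]
  group

/-- The Fourier elements normalise `E`. -/
theorem Q_norm (h : Root ω) {w : P3} (hw : w ∈ Subgroup.closure ({pf h, pg h} : Set P3)) :
    w ∈ Subgroup.normalizer ((E h : Subgroup P3) : Set P3) := by
  have key : ∀ (v : P3) (k : ℕ), v ^ k = v⁻¹ → v * px h * v⁻¹ ∈ E h → v * py * v⁻¹ ∈ E h →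
      v ∈ Subgroup.normalizer ((E h : Subgroup P3) : Set P3) := by
    intro v k hk h1 h2
    have hfwd : ∀ a ∈ E h, v * a * v⁻¹ ∈ E h := by
      intro a ha
      obtain ⟨i, j, rfl⟩ := (mem_E h).1 ha
      rw [← _root_.conj_mul, ← conj_pow, ← conj_pow]
      exact mul_mem (pow_mem h1 _) (pow_mem h2 _)
    have hit : ∀ m : ℕ, ∀ a ∈ E h, v ^ m * a * (v ^ m)⁻¹ ∈ E h := by
      intro m
      induction m with
      | zero => intro a ha; simpa using ha
      | succ m ih =>
        intro a ha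
        rw [pow_succ, show v ^ m * v * a * (v ^ m * v)⁻¹ = v ^ m * (v * a * v⁻¹) * (v ^ m)⁻¹ by group]
        exact ih _ (hfwd a ha)
    rw [Subgroup.mem_normalizer_iff]
    refine fun a => ⟨hfwd a, fun ha => ?_⟩
    have := hit k _ ha
    rwa [hk, show v⁻¹ * (v * a * v⁻¹) * (v⁻¹)⁻¹ = a by group] at this
  have hf4 : pf h ^ 3 = (pf h)⁻¹ := by
    refine (inv_eq_of_mul_eq_one_right ?_).symm
    calc pf h * pf h ^ 3 = (pf h * pf h) * (pf h * pf h) := by simp only [pow_succ, pow_zero, one_mul, mul_assoc]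
      _ = 1 := by rw [pf_sq, pt_sq]
  have hg4 : pg h ^ 3 = (pg h)⁻¹ := by
    refine (inv_eq_of_mul_eq_one_right ?_).symm
    calc pg h * pg h ^ 3 = (pg h * pg h) * (pg h * pg h) := by simp only [pow_succ, pow_zero, one_mul, mul_assoc]
      _ = 1 := by rw [pg_sq, pt_sq]
  have hfN : pf h ∈ Subgroup.normalizer ((E h : Subgroup P3) : Set P3) := key _ 3 hf4
    (by rw [f_x]; exact mul_mem (py_mem h) (py_mem h)) (by rw [f_y]; exact px_mem h)
  have hgN : pg h ∈ Subgroup.normalizer ((E h : Subgroup P3) : Set P3) := by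
    have hgx : pg h * px h * (pg h)⁻¹ ∈ E h := by
      rw [g_x]; exact mul_mem (mul_mem (py_mem h) (py_mem h)) (px_mem h)
    refine key _ 3 hg4 hgx ?_
    have hy : (py : P3) = pf h * (px h * px h) * (pf h)⁻¹ := by
      rw [← _root_.conj_mul, f_x]
      calc (py : P3) = py * (py * (py * py)) := by rw [py_cube, mul_one]
        _ = py * py * (py * py) := by group
    have e : pg h * py * (pg h)⁻¹ = (pf h)⁻¹ * (pg h * (px h * px h) * (pg h)⁻¹) * (pf h) := by
      rw [hy]
      calc pg h * (pf h * (px h * px h) * (pf h)⁻¹) * (pg h)⁻¹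
          = (pg h * pf h * (pg h)⁻¹) * (pg h * (px h * px h) * (pg h)⁻¹) * (pg h * pf h * (pg h)⁻¹)⁻¹ := by group
        _ = _ := by rw [g_f, inv_inv]
    rw [e]
    refine (Subgroup.mem_normalizer_iff''.1 hfN _).1 ?_
    rw [← _root_.conj_mul]
    exact mul_mem hgx hgx
  refine (Subgroup.closure_le _).2 ?_ hw
  rintro v (rfl | rfl)
  · exact hfN
  · exact hgN

/-- The group generated by the Fourier elements is a `2`-group. -/
theorem Q_two_group (h : Root ω) : IsPGroup 2 (Subgroup.closure ({pf h, pg h} : Set P3)) := by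
  have h4 : ∀ v : P3, v * v = pt → IsPGroup 2 (Subgroup.zpowers v) := fun v hv => by
    rintro ⟨z, hz⟩
    obtain ⟨i, rfl⟩ := Subgroup.mem_zpowers_iff.1 hz
    refine ⟨2, Subtype.ext ?_⟩
    have hv4 : v ^ (4 : ℤ) = 1 := by
      rw [show (4 : ℤ) = ((4 : ℕ) : ℤ) by norm_num, zpow_natCast, show 4 = 2 * 2 by norm_num, pow_mul, pow_two,
        pow_two, hv, pt_sq]
    show (v ^ i) ^ (2 ^ 2) = 1
    rw [← zpow_natCast, ← _root_.zpow_mul, mul_comm, _root_.zpow_mul]
    simp [hv4]
  have hn : Subgroup.zpowers (pg h) ≤ Subgroup.normalizer ((Subgroup.zpowers (pf h) : Subgroup P3) : Set P3) := by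
    rw [Subgroup.zpowers_le, Subgroup.mem_normalizer_iff]
    intro a
    constructor
    · intro ha
      obtain ⟨i, rfl⟩ := Subgroup.mem_zpowers_iff.1 ha
      rw [← conj_zpow, g_f]
      exact zpow_mem (inv_mem (Subgroup.mem_zpowers _)) _
    · intro ha
      obtain ⟨i, hi⟩ := Subgroup.mem_zpowers_iff.1 ha
      refine Subgroup.mem_zpowers_iff.2 ⟨-i, ?_⟩
      have h1 : (pg h * pf h * (pg h)⁻¹) ^ (-i) = pg h * a * (pg h)⁻¹ := by rw [g_f, _root_.zpow_neg, _root_.inv_zpow, inv_inv, hi]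
      rw [conj_zpow] at h1
      exact mul_left_cancel (mul_right_cancel h1)
  refine (IsPGroup.to_sup_of_normal_left' (h4 _ (pf_sq h)) (h4 _ (pg_sq h)) hn).to_le ?_
  rw [Subgroup.closure_le]
  rintro v (rfl | rfl)
  · exact Subgroup.mem_sup_left (Subgroup.mem_zpowers _)
  · exact Subgroup.mem_sup_right (Subgroup.mem_zpowers _)

end rels

variable {F : Type u} [Field F] [Fintype F] {ω : F} {p : ℕ}

local notation "P3" => Matrix.ProjectiveSpecialLinearGroup (Fin 3) F

/-- A `p`-subgroup normal in a group contains a nontrivial element central in any Sylow subgroup. -/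
theorem exists_central {G : Type*} [Group G] [Finite G] {r : ℕ} [Fact r.Prime] {N : Subgroup G} [N.Normal]
    (T : Sylow r G) (h : ∃ d ∈ N, d ∈ (T : Subgroup G) ∧ d ≠ 1) :
    ∃ z ∈ N, z ≠ 1 ∧ z ^ r = 1 ∧ ∀ y ∈ (T : Subgroup G), y * z = z * y := by
  haveI : Group.IsNilpotent (T : Subgroup G) := T.isPGroup'.isNilpotent
  obtain ⟨d, hdN, hdT, hd1⟩ := h
  set M := N.subgroupOf (T : Subgroup G)
  have hM : M ≠ ⊥ := fun e => hd1 (by
    have : (⟨d, hdT⟩ : (T : Subgroup G)) ∈ M := hdN
    rw [e, Subgroup.mem_bot] at this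
    exact congrArg Subtype.val this)
  set Z := M ⊓ Subgroup.center (T : Subgroup G)
  have hZ : Z ≠ ⊥ := CfsgLib.inf_center_ne_bot_of_nilpotent hM
  haveI : Nontrivial Z := (Subgroup.nontrivial_iff_ne_bot Z).2 hZ
  obtain ⟨k, hk⟩ := (T.isPGroup'.to_subgroup Z).exists_card_eq
  obtain ⟨z, hz⟩ := exists_prime_orderOf_dvd_card' (G := Z) r (by
    rw [hk]
    refine dvd_pow_self r fun h0 => ?_
    rw [h0, pow_zero] at hk
    exact (Finite.one_lt_card (α := Z)).ne' hk)
  refine ⟨((z : (T : Subgroup G)) : G), z.2.1, fun e => ?_, ?_, fun y hy => ?_⟩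
  · have : z = 1 := Subtype.ext (Subtype.ext e)
    rw [this, orderOf_one] at hz
    exact (Fact.out : r.Prime).ne_one hz.symm
  · have := orderOf_dvd_iff_pow_eq_one.1 hz.dvd
    exact congrArg (fun x : Z => ((x : (T : Subgroup G)) : G)) this
  · exact congrArg Subtype.val (Subgroup.mem_center_iff.1 z.2.2 ⟨y, hy⟩)

variable {h : Root ω}

theorem mem_E_of_commute {a : P3} (ha : ∀ e ∈ E h, a * e = e * a) : a ∈ E h := by
  rw [E, Subgroup.mem_centralizer_iff]
  rintro b (rfl | rfl)
  · exact (ha _ (px_mem h)).symm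
  · exact (ha _ (py_mem h)).symm

/-- Containing the involution means containing `E`. -/
theorem E_le_of_pt {G N : Subgroup P3} (hN : Inv G N) (hE : E h ≤ G) (ht : (pt : P3) ∈ N) : E h ≤ N := by
  intro e he
  have h3 : e * (e * e) = 1 := by have := E_cube h he; rwa [pow_succ', pow_two] at this
  have h1 : pt * (e * pt⁻¹ * e⁻¹) ∈ N := mul_mem ht (hN e (hE he) _ (inv_mem ht))
  have h2 : pt * (e * pt⁻¹ * e⁻¹) = e := by
    rw [show pt * (e * pt⁻¹ * e⁻¹) = (pt * e * pt⁻¹) * e⁻¹ by group, E_t h he]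
    rw [← _root_.mul_inv_rev]
    exact inv_eq_of_mul_eq_one_right (by rw [mul_assoc]; exact h3)
  rwa [h2] at h1

/-- An invariant subgroup of even order contains the involution. -/
theorem pt_mem_of_even (h2 : (2 : F) ≠ 0) {G N : Subgroup P3} (hf : pf h ∈ G) (hg : pg h ∈ G) (hN : Inv G N)
    (hNG : N ≤ G) (hev : Even (Nat.card N)) : (pt : P3) ∈ N := by
  classical
  haveI : Fact (Nat.Prime 2) := ⟨Nat.prime_two⟩
  haveI : (N.subgroupOf G).Normal := ⟨fun x hx g => hN g g.2 _ hx⟩
  have hQG : Subgroup.closure ({pf h, pg h} : Set P3) ≤ G := (Subgroup.closure_le _).2 (by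
    rintro v (rfl | rfl) <;> assumption)
  set Q := (Subgroup.closure ({pf h, pg h} : Set P3)).subgroupOf G
  have hQ : IsPGroup 2 Q := IsPGroup.of_equiv (Q_two_group h) (Subgroup.subgroupOfEquivOfLe hQG).symm
  obtain ⟨T, hT⟩ := hQ.exists_le_sylow
  obtain ⟨d, hd⟩ := exists_prime_orderOf_dvd_card' (G := N) 2 hev.two_dvd
  set d' : G := ⟨d, hNG d.2⟩
  have hd' : orderOf d' = 2 := by
    rw [← Subgroup.orderOf_coe]
    show orderOf (d : P3) = 2
    rw [Subgroup.orderOf_coe]; exact hd
  obtain ⟨T', hT'⟩ := (IsPGroup.of_card (n := 1) (by rw [Nat.card_zpowers, hd', pow_one]) :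
    IsPGroup 2 (Subgroup.zpowers d')).exists_le_sylow
  obtain ⟨a, ha⟩ := MulAction.exists_smul_eq G T' T
  obtain ⟨z, hzN, hz1, hz2, hzc⟩ := exists_central (N := N.subgroupOf G) T
    ⟨a * d' * a⁻¹, hN a a.2 _ d.2, by rw [← ha]; exact ⟨_, hT' (Subgroup.mem_zpowers _), rfl⟩, fun e => by
      rw [conj_eq_one_iff.1 e, orderOf_one] at hd'
      norm_num at hd'⟩
  have hcomm : ∀ v ∈ Subgroup.closure ({pf h, pg h} : Set P3), (z : P3) * v = v * z := fun v hv =>
    (congrArg Subtype.val (hzc ⟨v, hQG hv⟩ (hT hv))).symm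
  have hz : (z : P3) = pt := center_invol h h2 (by rw [← pow_two]; exact congrArg Subtype.val hz2)
    (fun e => hz1 (Subtype.ext e)) (hcomm _ (Subgroup.subset_closure (Or.inl rfl)))
    (hcomm _ (Subgroup.subset_closure (Or.inr rfl)))
  rw [← hz]
  exact hzN

/-- The core of the maximality of the Hessian groups. -/
theorem normalises [Fact p.Prime] [CharP F p] (hF : Fintype.card F = p) (hp : 5 < p) {G : Subgroup P3}
    (hE : E h ≤ G) (hf : pf h ∈ G) (hg : pg h ∈ G) (hG : G ≠ ⊤) : Inv G (E h) := by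
  classical
  have h2 : (2 : F) ≠ 0 := fun e => by
    have := (CharP.cast_eq_zero_iff F p 2).1 (by exact_mod_cast e)
    have := Nat.le_of_dvd two_pos this
    omega
  have hQG : Subgroup.closure ({pf h, pg h} : Set P3) ≤ G := (Subgroup.closure_le _).2 (by
    rintro v (rfl | rfl) <;> assumption)
  have hG1 : G ≠ ⊥ := fun e => px_ne_one h (Subgroup.mem_bot.1 (e ▸ hE (px_mem h)))
  obtain ⟨L, hLG, hL⟩ := exists_min (A := G) (N := G)
    (fun a ha x hx => mul_mem (mul_mem ha hx) (inv_mem ha)) hG1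
  haveI : Nontrivial L := (Subgroup.nontrivial_iff_ne_bot L).2 hL.ne_bot
  rcases hL.abelian_or with ⟨hab, r, hr, hexp⟩ | ⟨hnc, hev⟩
  · suffices hEL : E h ≤ L by
      have : L = E h := le_antisymm (fun a ha => mem_E_of_commute fun e he => hab a ha e (hEL he)) hEL
      exact this ▸ hL.inv
    by_cases hr2 : r = 2
    · -- impossible, but `pt` would lie in `L`
      subst hr2
      refine E_le_of_pt hL.inv hE (pt_mem_of_even h2 hf hg hL.inv hLG ?_)
      haveI : Fact (Nat.Prime 2) := ⟨Nat.prime_two⟩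
      obtain ⟨k, hk⟩ := (show IsPGroup 2 L from fun x => ⟨1, Subtype.ext (by simpa using hexp x.1 x.2)⟩).exists_card_eq
      rw [hk]
      refine (Nat.even_pow).2 ⟨even_two, fun h0 => ?_⟩
      rw [h0, pow_zero] at hk
      exact (Finite.one_lt_card (α := L)).ne' hk
    by_cases hr3 : r = 3
    · subst hr3
      haveI : Fact (Nat.Prime 3) := ⟨Nat.prime_three⟩
      haveI : (L.subgroupOf G).Normal := ⟨fun x hx g => hL.inv g g.2 _ hx⟩
      have hEp : IsPGroup 3 ((E h).subgroupOf G) := fun ⟨⟨a, _⟩, ha⟩ => ⟨1, by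
        apply Subtype.ext; apply Subtype.ext
        simpa using E_cube h (Subgroup.mem_subgroupOf.1 ha)⟩
      obtain ⟨T, hT⟩ := hEp.exists_le_sylow
      have hLp : IsPGroup 3 (L.subgroupOf G) := fun ⟨⟨a, _⟩, ha⟩ => ⟨1, by
        apply Subtype.ext; apply Subtype.ext
        simpa using hexp a (Subgroup.mem_subgroupOf.1 ha)⟩
      have hLT : L.subgroupOf G ≤ (T : Subgroup G) := by
        have := T.3 (IsPGroup.to_sup_of_normal_right T.2 hLp) le_sup_left
        rw [← this]
        exact le_sup_right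
      obtain ⟨⟨x, hxL⟩, hx1'⟩ := L.ne_bot_iff_exists_ne_one.1 hL.ne_bot
      have hx1 : x ≠ 1 := fun e => hx1' (Subtype.ext e)
      obtain ⟨z, hzL, hz1, -, hzc⟩ := exists_central (N := L.subgroupOf G) T
        ⟨⟨x, hLG hxL⟩, hxL, hLT hxL, fun e => hx1 (congrArg Subtype.val e)⟩
      have hzE : (z : P3) ∈ E h := mem_E_of_commute fun e he =>
        (congrArg Subtype.val (hzc ⟨e, hE he⟩ (hT he))).symm
      obtain ⟨w, hw, hcase⟩ := exists_conj h hzE (fun e => hz1 (Subtype.ext e))
      have hback : ∀ y : P3, y = w * px h * w⁻¹ → y ∈ L → px h ∈ L := fun y hy hyL => by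
        have := hL.inv w⁻¹ (inv_mem (hQG hw)) y hyL
        rwa [hy, inv_inv, show w⁻¹ * (w * px h * w⁻¹) * w = px h by group] at this
      have hxL' : px h ∈ L := by
        rcases hcase with e | e
        · exact hback _ e hzL
        · exact hback _ e (inv_mem hzL)
      have hyy : (py * py : P3) ∈ L := by rw [← f_x h]; exact hL.inv _ hf _ hxL'
      have hyL : (py : P3) ∈ L := by
        have : (py : P3) = py * py * (py * py) := by
          calc (py : P3) = py * (py * (py * py)) := by rw [py_cube, mul_one]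
            _ = py * py * (py * py) := by group
        rw [this]; exact mul_mem hyy hyy
      intro e he
      obtain ⟨i, j, rfl⟩ := (mem_E h).1 he
      exact mul_mem (pow_mem hxL' _) (pow_mem hyL _)
    -- the coprime case
    exfalso
    haveI : IsMulCommutative (E h) := ⟨⟨fun a b => Subtype.ext (E_comm h a.2 b.2)⟩⟩
    have hncyc : ¬ IsCyclic (E h) := fun hc => by
      have h1 : Monoid.exponent (E h) = 9 := (IsCyclic.exponent_eq_card (α := E h)).trans (E_card h)
      have h3 : Monoid.exponent (E h) ∣ 3 := Monoid.exponent_dvd_of_forall_pow_eq_one fun g =>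
        Subtype.ext (by simpa using E_cube h g.2)
      rw [h1] at h3
      norm_num at h3
    have hnorm : E h ≤ Subgroup.normalizer (L : Set P3) := by
      intro e he
      rw [Subgroup.mem_normalizer_iff]
      refine fun a => ⟨hL.inv e (hE he) a, fun ha => ?_⟩
      have := hL.inv e⁻¹ (inv_mem (hE he)) _ ha
      rwa [inv_inv, show e⁻¹ * (e * a * e⁻¹) * e = a by group] at this
    haveI : Fact r.Prime := ⟨hr⟩
    obtain ⟨k, hk⟩ := (show IsPGroup r L from fun x => ⟨1, Subtype.ext (by simpa using hexp x.1 x.2)⟩).exists_card_eq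
    have hcop : (Nat.card (E h)).Coprime (Nat.card L) := by
      rw [E_card, hk, show 9 = 3 ^ 2 by norm_num]
      exact Nat.Coprime.pow _ _ ((Nat.coprime_primes Nat.prime_three hr).2 fun e => hr3 e.symm)
    have hgen := CfsgLib.coprime_generated_by_centralizers hncyc hnorm hcop
    obtain ⟨e, he, he1, a, haL, hae, ha1⟩ : ∃ e ∈ E h, e ≠ 1 ∧ ∃ a ∈ L, a * e = e * a ∧ a ≠ 1 := by
      by_contra hno
      push_neg at hno
      refine hL.ne_bot (eq_bot_iff.2 ?_)
      rw [← hgen]
      refine iSup₂_le fun e he a ha => Subgroup.mem_bot.2 ?_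
      exact hno e he.1 he.2 a ha.1 (Subgroup.mem_centralizer_singleton_iff.1 ha.2)
    obtain ⟨w, hw, hcase⟩ := exists_conj h he he1
    have hconj : ∀ y : P3, y = w * px h * w⁻¹ → a * y = y * a → (w⁻¹ * a * w) * px h = px h * (w⁻¹ * a * w) :=
      fun y hy hay => by
        have h1 : px h = w⁻¹ * y * w := by rw [hy]; group
        rw [h1, show w⁻¹ * a * w * (w⁻¹ * y * w) = w⁻¹ * (a * y) * w by group, hay]
        group
    have hax : (w⁻¹ * a * w) * px h = px h * (w⁻¹ * a * w) := by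
      rcases hcase with e' | e'
      · exact hconj _ e' hae
      · exact hconj _ e' ((show Commute a e from hae).inv_right).eq
    have haL' : w⁻¹ * a * w ∈ L := by
      have := hL.inv w⁻¹ (inv_mem (hQG hw)) a haL
      rwa [inv_inv] at this
    refine ha1 ?_
    have h1 := coprime_centX h (r := r) (fun h0 => hr3
      ((Nat.prime_dvd_prime_iff_eq Nat.prime_three hr).1 (Nat.dvd_of_mod_eq_zero h0)).symm) (hexp _ haL') hax
      (hab _ haL' _ (hL.inv _ hf _ haL'))
    calc a = w * (w⁻¹ * a * w) * w⁻¹ := by group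
      _ = 1 := by rw [h1]; group
  · exfalso
    have hrk : ∀ B : Subgroup P3, (∀ a ∈ B, ∀ b ∈ B, a * b = b * a) → (∀ a ∈ B, a * a = 1) → Nat.card B ≤ 4 :=
      fun B hc he => rank_two h2 hc he
    have hpt := pt_mem_of_even h2 hf hg hL.inv hLG hev
    haveI hsimple := hL.simple hLG hnc hrk
    have hs : Situation h L := ⟨hsimple, hnc, E_le_of_pt hL.inv hE hpt, hpt,
      fun e => hG (top_le_iff.1 (e.symm.le.trans hLG)), fun w hw a ha => hL.inv w (hQG hw) a ha, h2⟩
    haveI : Fact (Nat.Prime 2) := ⟨Nat.prime_two⟩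
    haveI := Fintype.ofFinite (GaloisField 2 4)
    have h16 : Fintype.card (GaloisField 2 4) = 16 := by
      rw [← Nat.card_eq_fintype_card, GaloisField.card 2 4 (by norm_num)]
      norm_num
    obtain ⟨S⟩ := (inferInstance : Nonempty (Sylow 2 L))
    obtain ⟨P⟩ := (inferInstance : Nonempty (Sylow 2 (Cfsg.PSU 3 (GaloisField 2 4) 4)))
    rcases Cfsg.Agent.S0516.result hnc hs.rank S h16 P with ⟨n, hn, ⟨e⟩⟩ | hq | hw | ⟨⟨e⟩⟩
    · exact no_dihedral hp hs (fun a ha => mem_E_of_commute ha) S n hn e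
    · exact no_qd hF hp hs S (Or.inl hq)
    · exact no_qd hF hp hs S (Or.inr hw)
    · exact no_unitary h16 hs S P e

end CfsgLib.MaxSub.SLThree.Hess
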