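/-
The Hessian subgroups of `SL(3, p)` are maximal.
-/
import Cfsg.Agent.Lib.MaxSub.SLThree.Hess.Norm
import Cfsg.Agent.Lib.Heis27.Basic
import Cfsg.Agent.Lib.Aschbacher.MaximalLinear
import Cfsg.Prelude.Def_GeometricClasses
import Mathlib.LinearAlgebra.Eigenspace.Basic
import Mathlib.LinearAlgebra.Matrix.NonsingularInverse

set_option autoImplicit false
set_option maxHeartbeats 800000
set_option linter.unusedSectionVars false
set_option linter.style.haveILetI false

namespace CfsgLib.MaxSub.SLThree.Hess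

open Matrix Cfsg

variable {F : Type*} [Field F] [Fintype F]

local notation "G3" => GL (Fin 3) F
local notation "Mn" => Matrix (Fin 3) (Fin 3) F
local notation "SL" => Matrix.SpecialLinearGroup (Fin 3) F
local notation "P3" => Matrix.ProjectiveSpecialLinearGroup (Fin 3) F

theorem root_of_cube (h3 : (3 : F) ≠ 0) {z : F} (hz : z ^ 3 = 1) (hz1 : z ≠ 1) : Root z := by
  refine ⟨?_, h3⟩
  have h : (z - 1) * (z * z + z + 1) = 0 := by linear_combination hz
  exact (mul_eq_zero.1 h).resolve_left (sub_ne_zero.2 hz1)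

/-- The data of the class give a group of order `27`. -/
theorem symplectic_facts (h3 : (3 : F) ≠ 0) {R : Subgroup (GL (Fin 3) F)}
    (hR : Cfsg.Geo.IsLinearSymplecticTypeData 3 R) :
    Nat.card R = 27 ∧ Monoid.exponent R = 3 ∧ ¬ IsMulCommutative R := by
  classical
  haveI : Fact (Nat.Prime 3) := ⟨Nat.prime_three⟩
  have hexp : Monoid.exponent R = 3 := by rw [hR.symplecticType.exponent_eq]; norm_num
  obtain ⟨p, e, -, -, hd⟩ := hR.field
  rcases hd with ⟨-, -, hZ, m, hm, hcard⟩ | ⟨hc, -⟩ | ⟨hc, -⟩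
  rotate_left
  · exact absurd hc (by decide)
  · exact absurd hc (by decide)
  have hpow : ∀ r : R, r ^ 3 = 1 := fun r => by
    have := Monoid.pow_exponent_eq_one r
    rwa [hexp] at this
  have h27 : 27 ≤ Nat.card R := by
    rw [hcard]
    exact le_trans (by norm_num : 27 ≤ 3 ^ 3) (Nat.pow_le_pow_right (by norm_num) (by omega))
  set Z := Subgroup.center R with hZdef
  have hna : ¬ IsMulCommutative R := fun hc => by
    have : Z = ⊤ := eq_top_iff.2 fun x _ => Subgroup.mem_center_iff.2 fun g => hc.is_comm.comm g x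
    rw [this, Subgroup.card_top] at hZ
    omega
  refine ⟨?_, hexp, hna⟩
  -- central elements are scalar
  have hscal : ∀ z ∈ Z, ∃ c : F, c ^ 3 = 1 ∧ ((z : GL (Fin 3) F) : Mn) = c • (1 : Mn) := by
    intro z hz
    obtain ⟨c, hc⟩ := hR.absIrred.2 ((z : GL (Fin 3) F) : Mn) (by
      rintro _ ⟨r, hr, rfl⟩
      exact congrArg (fun x : R => ((x : GL (Fin 3) F) : Mn)) (Subgroup.mem_center_iff.1 hz ⟨r, hr⟩).symm)
    refine ⟨c, ?_, hc⟩
    have h1 := congrArg (fun x : R => ((x : GL (Fin 3) F) : Mn)) (hpow z)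
    simp only [SubmonoidClass.coe_pow, Units.val_pow_eq_pow_val, OneMemClass.coe_one, Units.val_one, hc, smul_pow,
      one_pow] at h1
    exact eq_one_of_smul one_ne_zero h1
  -- an element central modulo the centre
  have hRp : IsPGroup 3 R := hR.symplecticType.pGroup
  have hlt : 1 < Nat.card (R ⧸ Z) := by
    have := Subgroup.card_eq_card_quotient_mul_card_subgroup Z
    rw [hZ] at this
    omega
  haveI : Nontrivial (R ⧸ Z) := Finite.one_lt_card_iff_nontrivial.1 hlt
  haveI := (hRp.to_quotient Z).center_nontrivial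
  obtain ⟨⟨xq, hxqc⟩, hxq⟩ := exists_ne (1 : Subgroup.center (R ⧸ Z))
  obtain ⟨x, rfl⟩ := QuotientGroup.mk_surjective xq
  have hxZ : x ∉ Z := fun e => hxq (Subtype.ext ((QuotientGroup.eq_one_iff x).2 e))
  have hcomm : ∀ r : R, x * r * x⁻¹ * r⁻¹ ∈ Z := fun r => by
    rw [← QuotientGroup.eq_one_iff]
    have := Subgroup.mem_center_iff.1 hxqc (r : R ⧸ Z)
    rw [QuotientGroup.mk_mul, QuotientGroup.mk_mul, QuotientGroup.mk_mul, QuotientGroup.mk_inv,
      QuotientGroup.mk_inv, ← this]
    group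
  obtain ⟨y, hy⟩ : ∃ y : R, y * x ≠ x * y := by
    by_contra hno
    push_neg at hno
    exact hxZ (Subgroup.mem_center_iff.2 hno)
  obtain ⟨ζ, hζ3, hζ⟩ := hscal _ (hcomm y)
  have hxy : ((x : GL (Fin 3) F) : Mn) * ((y : GL (Fin 3) F) : Mn) =
      ζ • (((y : GL (Fin 3) F) : Mn) * ((x : GL (Fin 3) F) : Mn)) := by
    have h1 : x * y = (x * y * x⁻¹ * y⁻¹) * (y * x) := by group
    have h2 := congrArg (fun x : R => ((x : GL (Fin 3) F) : Mn)) h1
    simp only [Subgroup.coe_mul, Units.val_mul] at h2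
    rw [h2]
    have h4 : ((x * y * x⁻¹ * y⁻¹ : R) : GL (Fin 3) F) = (x : G3) * y * (x : G3)⁻¹ * (y : G3)⁻¹ := rfl
    rw [h4] at hζ
    simp only [Units.val_mul] at hζ
    rw [show ∀ P Q : Mn, P * Q = P * Q from fun _ _ => rfl]
    simp only [Subgroup.coe_inv]
    rw [hζ, Matrix.smul_mul, one_mul]
  have hζ1 : ζ ≠ 1 := fun e => hy (Subtype.ext (Units.ext (by
    show ((y : GL (Fin 3) F) : Mn) * (x : GL (Fin 3) F) = ((x : GL (Fin 3) F) : Mn) * (y : GL (Fin 3) F)
    rw [hxy, e, one_smul])))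
  have hroot := root_of_cube h3 hζ3 hζ1
  set X : Mn := ((x : GL (Fin 3) F) : Mn) with hX
  set Y : Mn := ((y : GL (Fin 3) F) : Mn) with hY
  have hX3 : X * (X * X) = 1 := by
    have := congrArg (fun x : R => ((x : GL (Fin 3) F) : Mn)) (hpow x)
    simpa [pow_succ', X] using this
  -- an eigenvector
  obtain ⟨v, a, hv, hva, ha⟩ : ∃ (v : Fin 3 → F) (a : F), v ≠ 0 ∧ X *ᵥ v = a • v ∧ a ≠ 0 := by
    have hT : ∀ k : F, k ^ 3 = 1 → ∀ w : Fin 3 → F, X *ᵥ (w + k • (X *ᵥ w) + (k * k) • (X *ᵥ (X *ᵥ w))) =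
        (k * k) • (w + k • (X *ᵥ w) + (k * k) • (X *ᵥ (X *ᵥ w))) := by
      intro k hk w
      have e3 : X *ᵥ (X *ᵥ (X *ᵥ w)) = w := by
        rw [Matrix.mulVec_mulVec, Matrix.mulVec_mulVec, mul_assoc, hX3, Matrix.one_mulVec]
      simp only [Matrix.mulVec_add, Matrix.mulVec_smul, e3, smul_add, smul_smul]
      rw [show k * k * k = 1 by linear_combination hk, show k * k * (k * k) = k by linear_combination k * hk,
        one_smul]
      abel
    set w : Fin 3 → F := Pi.single 0 1
    by_cases h0 : w + (1 : F) • (X *ᵥ w) + ((1 : F) * 1) • (X *ᵥ (X *ᵥ w)) = 0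
    · by_cases h1 : w + ζ • (X *ᵥ w) + (ζ * ζ) • (X *ᵥ (X *ᵥ w)) = 0
      · have hk : (ζ * ζ) ^ 3 = 1 := by rw [mul_pow, hζ3, one_mul]
        refine ⟨_, _, fun h2 => ?_, hT (ζ * ζ) hk w, ?_⟩
        · have hsum : (3 : F) • w = 0 := by
            have h5 : (w + (1 : F) • (X *ᵥ w) + ((1 : F) * 1) • (X *ᵥ (X *ᵥ w))) +
                (w + ζ • (X *ᵥ w) + (ζ * ζ) • (X *ᵥ (X *ᵥ w))) +
                (w + (ζ * ζ) • (X *ᵥ w) + (ζ * ζ * (ζ * ζ)) • (X *ᵥ (X *ᵥ w))) = (3 : F) • w := by
              funext i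
              simp only [Pi.add_apply, Pi.smul_apply, smul_eq_mul]
              linear_combination ((X *ᵥ w) i + (X *ᵥ (X *ᵥ w)) i) * hroot.eq +
                ζ * (X *ᵥ (X *ᵥ w)) i * hζ3
            rw [← h5, h0, h1, h2]
            simp
          have := congrFun hsum 0
          simp [w] at this
          exact h3 this
        · exact mul_ne_zero (mul_ne_zero (mul_ne_zero hroot.ne_zero hroot.ne_zero) hroot.ne_zero) hroot.ne_zero |>
            fun h => by simpa [mul_assoc] using h
      · exact ⟨_, _, h1, hT ζ hζ3 w, mul_ne_zero hroot.ne_zero hroot.ne_zero⟩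
    · exact ⟨_, _, h0, hT 1 (one_pow 3) w, by simp⟩
  let vs : Fin 3 → Fin 3 → F := ![v, Y *ᵥ v, Y *ᵥ (Y *ᵥ v)]
  let μ : Fin 3 → F := ![a, ζ * a, ζ * (ζ * a)]
  have hshift : ∀ (u : Fin 3 → F) (b : F), X *ᵥ u = b • u → X *ᵥ (Y *ᵥ u) = (ζ * b) • (Y *ᵥ u) := fun u b hu => by
    rw [Matrix.mulVec_mulVec, hxy, Matrix.smul_mulVec, ← Matrix.mulVec_mulVec, hu, Matrix.mulVec_smul, smul_smul]
  have heig : ∀ i, X *ᵥ vs i = μ i • vs i := fun i => by
    fin_cases i
    · exact hva
    · exact hshift _ _ hva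
    · exact hshift _ _ (hshift _ _ hva)
  have hYinj : ∀ u : Fin 3 → F, Y *ᵥ u = 0 → u = 0 := fun u hu => by
    have := congrArg (((y⁻¹ : R) : GL (Fin 3) F).1 *ᵥ ·) hu
    simpa [Matrix.mulVec_mulVec, Y] using this
  have hne : ∀ i, vs i ≠ 0 := fun i => by
    fin_cases i
    · exact hv
    · exact fun e => hv (hYinj _ e)
    · exact fun e => hv (hYinj _ (hYinj _ e))
  have hμ : Function.Injective μ := by
    intro i j e
    fin_cases i <;> fin_cases j <;> simp [μ, ← mul_assoc, ha] at e ⊢ <;>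
      first
        | exact hroot.ne_one (mul_right_cancel₀ ha (by linear_combination e))
        | exact hroot.ne_one (mul_right_cancel₀ ha (by linear_combination -e))
        | exact hroot.sq_ne (mul_right_cancel₀ ha (by linear_combination e))
        | exact hroot.sq_ne (mul_right_cancel₀ ha (by linear_combination -e))
        | exact hroot.ne_one (mul_left_cancel₀ hroot.ne_zero (mul_right_cancel₀ ha (by linear_combination e)))
        | exact hroot.ne_one (mul_left_cancel₀ hroot.ne_zero (mul_right_cancel₀ ha (by linear_combination -e)))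
        | exact hroot.ne_one (mul_left_cancel₀ hroot.ne_zero (by linear_combination e))
        | exact hroot.ne_one (mul_left_cancel₀ hroot.ne_zero (by linear_combination -e))
        | exact absurd e hroot.ne_one | exact absurd e.symm hroot.ne_one
        | exact absurd e hroot.sq_ne | exact absurd e.symm hroot.sq_ne
  have hli : LinearIndependent F vs := Module.End.eigenvectors_linearIndependent' (Matrix.toLin' X) μ hμ vs
    fun i => ⟨Module.End.mem_eigenspace_iff.2 (by rw [Matrix.toLin'_apply]; exact heig i), hne i⟩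
  obtain ⟨B, hB⟩ : IsUnit (Matrix.of fun i j => vs j i) := Matrix.linearIndependent_cols_iff_isUnit.1 hli
  have hXB : X * B.1 = B.1 * Matrix.diagonal μ := by
    ext i j
    rw [Matrix.mul_diagonal, hB]
    have := congrFun (heig j) i
    simp only [Matrix.mulVec, dotProduct, Pi.smul_apply, smul_eq_mul] at this
    rw [Matrix.mul_apply]
    simp only [Matrix.of_apply]
    linear_combination this
  -- the centraliser of `x`
  set C := Subgroup.centralizer ({x} : Set R)
  have hdiag : ∀ c : C, ∀ i j : Fin 3, i ≠ j → ((B⁻¹).1 * ((c : R) : GL (Fin 3) F).1 * B.1) i j = 0 := by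
    intro c i j hij
    have h1 : X * ((c : R) : GL (Fin 3) F).1 = ((c : R) : GL (Fin 3) F).1 * X :=
      congrArg (fun x : R => ((x : GL (Fin 3) F) : Mn)) (Subgroup.mem_centralizer_singleton_iff.1 c.2).symm
    have hXe : X = B.1 * Matrix.diagonal μ * (B⁻¹).1 := by rw [← hXB, mul_assoc, Units.mul_inv, mul_one]
    exact (mul_eq_zero.1 (frame_entries hXe h1 i j)).resolve_left (sub_ne_zero.2 fun e => hij (hμ e))
  let D : C → Fin 3 → F := fun c i => ((B⁻¹).1 * ((c : R) : GL (Fin 3) F).1 * B.1) i i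
  have hD : ∀ c : C, (B⁻¹).1 * ((c : R) : GL (Fin 3) F).1 * B.1 = Matrix.diagonal (D c) := fun c => by
    ext i j
    by_cases hij : i = j
    · subst hij; rw [Matrix.diagonal_apply_eq]
    · rw [hdiag c i j hij, Matrix.diagonal_apply_ne _ hij]
  have hD3 : ∀ c i, D c i = 1 ∨ D c i = ζ ∨ D c i = ζ * ζ := fun c i => by
    refine hroot.cases ?_
    have h1 : (Matrix.diagonal (D c)) ^ 3 = (1 : Mn) := by
      have h2 : ((c : R) : GL (Fin 3) F) ^ 3 = 1 := congrArg Subtype.val (hpow c)
      have h4 : (Matrix.diagonal (D c)) = ((B⁻¹ * ((c : R) : GL (Fin 3) F) * B : GL (Fin 3) F) : Mn) := (hD c).symm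
      rw [h4, ← Units.val_pow_eq_pow_val, show B⁻¹ * ((c : R) : GL (Fin 3) F) * B =
        B⁻¹ * ((c : R) : GL (Fin 3) F) * B⁻¹⁻¹ by rw [inv_inv], conj_pow, h2]
      simp
    have h2 := congrFun (congrFun h1 i) i
    rwa [Matrix.diagonal_pow, Matrix.diagonal_apply_eq, Matrix.one_apply_eq] at h2
  let code : C → Fin 3 → Fin 3 := fun c i => if D c i = 1 then 0 else if D c i = ζ then 1 else 2
  have hcode : Function.Injective code := by
    intro c d e
    have hDe : D c = D d := funext fun i => by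
      have := congrFun e i
      simp only [code] at this
      rcases hD3 c i with u | u | u <;> rcases hD3 d i with u' | u' | u' <;> rw [u, u'] at this ⊢ <;>
        simp [hroot.ne_one, hroot.sq_ne, hroot.ne_zero, hroot.ne_one.symm] at this ⊢
    refine Subtype.ext (Subtype.ext (Units.ext ?_))
    have h1 := hD c
    rw [hDe, ← hD d] at h1
    have h2 := congrArg (fun M => B.1 * M * (B⁻¹).1) h1
    simpa only [mul_assoc, Units.mul_inv_cancel_left, Units.mul_inv, mul_one] using h2
  have hC : Nat.card C ≤ 27 := by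
    refine (Nat.card_le_card_of_injective code hcode).trans ?_
    simp
  -- the index is at most three
  let f : R → Z := fun r => ⟨x * r * x⁻¹ * r⁻¹, hcomm r⟩
  let s : Z → R := Function.invFun f
  let ι : R → Z × C := fun r => (f r, ⟨(s (f r))⁻¹ * r, by
    have h1 : f (s (f r)) = f r := Function.invFun_eq ⟨r, rfl⟩
    have h2 : x * s (f r) * x⁻¹ * (s (f r))⁻¹ = x * r * x⁻¹ * r⁻¹ := congrArg Subtype.val h1
    have hc := Subgroup.mem_center_iff.1 (hcomm r)
    rw [Subgroup.mem_centralizer_singleton_iff]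
    set z := x * r * x⁻¹ * r⁻¹ with hz
    have e1 : x * r = z * r * x := by rw [hz]; group
    have e2 : x * s (f r) = z * s (f r) * x := by rw [← h2]; group
    have e3 : x * (s (f r))⁻¹ = (s (f r))⁻¹ * z⁻¹ * x := by
      calc x * (s (f r))⁻¹ = (s (f r))⁻¹ * z⁻¹ * (z * s (f r) * x) * (s (f r))⁻¹ := by group
        _ = _ := by rw [← e2]; group
    calc (s (f r))⁻¹ * r * x = (s (f r))⁻¹ * z⁻¹ * (z * r * x) := by group
      _ = x * ((s (f r))⁻¹ * r) := by rw [← e1, ← mul_assoc x, e3]; group⟩)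
  have hι : Function.Injective ι := fun r r' e => by
    have e1 : f r = f r' := congrArg Prod.fst e
    have e2 := congrArg (fun t : Z × C => ((t.2 : C) : R)) e
    simp only [ι, e1] at e2
    exact mul_left_cancel e2
  have hle := Nat.card_le_card_of_injective ι hι
  rw [Nat.card_prod, hZ] at hle
  have hm1 : m = 1 := by
    by_contra hne'
    have h243 : 243 ≤ Nat.card R := by
      rw [hcard]
      exact le_trans (by norm_num : 243 ≤ 3 ^ 5) (Nat.pow_le_pow_right (by norm_num) (by omega))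
    omega
  rw [hcard, hm1]
  norm_num

/-- The Hessian subgroups are maximal. -/
theorem sl_symplectic_maximal_three {p : ℕ} {R : Subgroup (GL (Fin 3) F)} (hp : p.Prime)
    (hF : Fintype.card F = p) (hp3 : p % 3 = 1) (hR : Cfsg.Geo.IsLinearSymplecticTypeData 3 R) :
    Cfsg.Geo.IsMaximalIn (Cfsg.Geo.specialLinear (Fin 3) F)
      (Cfsg.Geo.subgroupNormalizer R ⊓ Cfsg.Geo.specialLinear (Fin 3) F) := by
  classical
  haveI : Fact p.Prime := ⟨hp⟩
  haveI hchar : CharP F p := by
    obtain ⟨r, hr⟩ := CharP.exists F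
    obtain ⟨n, hrp, hn⟩ := FiniteField.card F r
    have : r = p := (Nat.prime_dvd_prime_iff_eq hrp hp).1 (by rw [← hF, hn]; exact dvd_pow_self r n.pos.ne')
    exact this ▸ hr
  have hp5 : 5 < p := by
    have := hp.two_le
    rcases (show p = 4 ∨ 5 < p by omega) with e | e
    · rw [e] at hp; norm_num at hp
    · exact e
  have h3 : (3 : F) ≠ 0 := fun e => by
    have := (CharP.cast_eq_zero_iff F p 3).1 (by exact_mod_cast e)
    have := Nat.le_of_dvd (by norm_num) this
    omega
  obtain ⟨h27, hexp, hna⟩ := symplectic_facts h3 hR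
  haveI : Fact (Nat.Prime 3) := ⟨Nat.prime_three⟩
  obtain ⟨ζ, hζ⟩ : ∃ ζ : F, IsPrimitiveRoot ζ 3 := by
    obtain ⟨u, hu⟩ := exists_prime_orderOf_dvd_card (G := Fˣ) 3 (by rw [Fintype.card_units, hF]; omega)
    refine ⟨u, ?_⟩
    rw [← hu, ← orderOf_units]
    exact IsPrimitiveRoot.orderOf _
  obtain ⟨g, ω, hω, a, b, hab, ha, hb⟩ := CfsgLib.Heis27.exists_std h3 hζ R h27 hexp hna
  have h : Root ω := root_of_cube h3 hω.pow_eq_one (hω.ne_one (by norm_num))
  -- conjugated embedding
  let θ : SL →* GL (Fin 3) F :=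
    (MulAut.conj g).toMonoidHom.comp (Matrix.SpecialLinearGroup.toGL (n := Fin 3) (R := F))
  have hθi : Function.Injective θ := fun A B e =>
    Matrix.SpecialLinearGroup.toGL_injective ((MulAut.conj g).injective e)
  have hθS : ∀ A, θ A ∈ Cfsg.Geo.specialLinear (Fin 3) F := fun A => by
    refine MonoidHom.mem_ker.2 ?_
    show Matrix.GeneralLinearGroup.det (g * Matrix.SpecialLinearGroup.toGL A * g⁻¹) = 1
    rw [map_mul, map_mul, map_inv, mul_comm, inv_mul_cancel_left]
    exact Units.ext A.2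
  have hθs : ∀ m ∈ Cfsg.Geo.specialLinear (Fin 3) F, ∃ A, θ A = m := fun m hm => by
    refine ⟨⟨(g⁻¹ * m * g : GL (Fin 3) F), ?_⟩, ?_⟩
    · have h1 : Matrix.GeneralLinearGroup.det (g⁻¹ * m * g) = 1 := by
        rw [map_mul, map_mul, map_inv, MonoidHom.mem_ker.1 hm, mul_one, inv_mul_cancel]
      exact congrArg Units.val h1
    · show g * _ * g⁻¹ = m
      calc _ = g * (g⁻¹ * m * g) * g⁻¹ := by congr 2; exact Units.ext rfl
        _ = m := by group
  -- the group of order twenty-seven upstairs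
  have hθX : θ (sX h) = a := by
    show g * Matrix.SpecialLinearGroup.toGL (sX h) * g⁻¹ = a
    rw [show Matrix.SpecialLinearGroup.toGL (sX h) = g⁻¹ * a * g from Units.ext (by
      rw [ha]; show Xm ω = _; rw [Xm, CfsgLib.Heis27.aMat, pow_two])]
    group
  have hθY : θ sY = b := by
    show g * Matrix.SpecialLinearGroup.toGL sY * g⁻¹ = b
    rw [show Matrix.SpecialLinearGroup.toGL (sY : SL) = g⁻¹ * b * g from Units.ext (by rw [hb]; rfl)]
    group
  set R0 := Subgroup.closure ({sX h, sY} : Set SL) with hR0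
  have hRmap : R0.map θ = R := by
    rw [hR0, MonoidHom.map_closure, Set.image_pair, hθX, hθY, hab]
  have hR0E : R0 = (E h).comap mk := by
    refine le_antisymm ((Subgroup.closure_le _).2 ?_) fun A hA => ?_
    · rintro _ (rfl | rfl)
      · exact px_mem h
      · exact py_mem h
    · obtain ⟨i, j, hij⟩ := (mem_E h).1 hA
      rw [px, py, ← map_pow, ← map_pow, ← map_mul] at hij
      obtain ⟨c, hc, hcA⟩ := mk_eq_iff.1 hij.symm
      have hX0 : sX h ∈ R0 := Subgroup.subset_closure (Or.inl rfl)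
      have hY0 : (sY : SL) ∈ R0 := Subgroup.subset_closure (Or.inr rfl)
      set W := sX h * sY * (sX h)⁻¹ * sY⁻¹ with hW
      have hW0 : W ∈ R0 := mul_mem (mul_mem (mul_mem hX0 hY0) (inv_mem hX0)) (inv_mem hY0)
      have hWv : W.1 = ω • (1 : Mn) := by
        have e1 : (W * (sY * sX h)).1 = ω • (sY * sX h : SL).1 := by
          rw [hW, show sX h * sY * (sX h)⁻¹ * sY⁻¹ * (sY * sX h) = sX h * sY by group]
          exact XY h
        have e2 := congrArg (fun M => M * ((sY * sX h)⁻¹ : SL).1) e1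
        simp only [← val_mul, mul_inv_cancel_right, Matrix.smul_mul, mul_inv_cancel] at e2
        exact e2
      obtain ⟨k, hk⟩ : ∃ k : ℕ, c = ω ^ k := by
        rcases h.cases hc with e | e | e
        · exact ⟨0, by rw [e, pow_zero]⟩
        · exact ⟨1, by rw [e, pow_one]⟩
        · exact ⟨2, by rw [e, pow_two]⟩
      have : A = W ^ k * (sX h ^ (i : ℕ) * sY ^ (j : ℕ)) := Subtype.ext (by
        show A.1 = (W ^ k).1 * (sX h ^ (i : ℕ) * sY ^ (j : ℕ)).1
        rw [Matrix.SpecialLinearGroup.coe_pow, hWv, smul_pow, one_pow, Matrix.smul_mul, one_mul, ← hk]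
        exact hcA)
      rw [this]
      exact mul_mem (pow_mem hW0 _) (mul_mem (pow_mem hX0 _) (pow_mem hY0 _))
  -- normalisers correspond
  have hnorm : ∀ A : SL, θ A ∈ Cfsg.Geo.subgroupNormalizer R ↔
      mk A ∈ Subgroup.normalizer ((E h : Subgroup P3) : Set P3) := fun A => by
    constructor
    · intro hA
      rw [Subgroup.mem_normalizer_iff]
      intro e
      obtain ⟨B, rfl⟩ := mk_surj e
      rw [← map_inv, ← map_mul, ← map_mul, ← Subgroup.mem_comap, ← Subgroup.mem_comap, ← hR0E]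
      have := Subgroup.mem_normalizer_iff.1 hA (θ B)
      rw [← map_inv, ← map_mul, ← map_mul, ← hRmap, Subgroup.mem_map_iff_mem hθi,
        Subgroup.mem_map_iff_mem hθi] at this
      exact this
    · intro hA
      have hfwd : ∀ r, r ∈ R → θ A * r * (θ A)⁻¹ ∈ R := fun r hr => by
        rw [← hRmap] at hr ⊢
        obtain ⟨B, hB, rfl⟩ := hr
        rw [← map_inv, ← map_mul, ← map_mul, Subgroup.mem_map_iff_mem hθi]
        simp only [SetLike.mem_coe, hR0E, Subgroup.mem_comap] at hB ⊢
        rw [map_mul, map_mul, map_inv]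
        exact (Subgroup.mem_normalizer_iff.1 hA _).1 hB
      show θ A ∈ Subgroup.normalizer (R : Set (GL (Fin 3) F))
      rw [Subgroup.mem_normalizer_iff]
      refine fun r => ⟨hfwd r, fun hr => ?_⟩
      rw [← hRmap] at hr ⊢
      obtain ⟨B, hB, hBe⟩ := hr
      refine ⟨A⁻¹ * B * A, ?_, ?_⟩
      · show A⁻¹ * B * A ∈ R0
        change B ∈ R0 at hB
        rw [hR0E, Subgroup.mem_comap] at hB ⊢
        rw [map_mul, map_mul, map_inv]
        exact (Subgroup.mem_normalizer_iff''.1 hA _).1 hB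
      · rw [map_mul, map_mul, map_inv, hBe]
        group
  refine ⟨lt_of_le_of_ne inf_le_right fun e => ?_, fun M hM hMS => ?_⟩
  · -- a transvection does not normalise
    let T : SL := ⟨!![1, 1, 0; 0, 1, 0; 0, 0, 1], by simp [Matrix.det_fin_three]⟩
    have hT : θ T ∈ Cfsg.Geo.subgroupNormalizer R := (inf_le_left : _ ≤ Cfsg.Geo.subgroupNormalizer R) (by
      rw [e]; exact hθS T)
    have h1 := (Subgroup.mem_normalizer_iff.1 ((hnorm T).1 hT) (px h)).1 (px_mem h)
    have h2 := E_comm h (px_mem h) h1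
    rw [px, ← map_inv, ← map_mul, ← map_mul] at h2
    obtain ⟨c, -, hc⟩ := comm_iff.1 h2
    have e00 := congrFun (congrFun hc 0) 0
    have e01 := congrFun (congrFun hc 0) 1
    simp only [Matrix.SpecialLinearGroup.coe_mul, Matrix.SpecialLinearGroup.coe_inv] at e00 e01
    simp only [Matrix.mul_apply, Fin.sum_univ_three] at e00 e01
    simp [T, sX, Xm, Matrix.adjugate_fin_three, Matrix.vecMul, dotProduct, Fin.sum_univ_three, Matrix.diagonal_mul] at e00 e01
    have hk : (ω - 1) * (ω - 1) = 0 := by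
      rw [← e00] at e01
      first | linear_combination e01 | linear_combination -e01
    exact h.ne_one (sub_eq_zero.1 (mul_self_eq_zero.1 hk))
  · set K := M.comap θ with hK
    set G := K.map mk with hG
    have hKmem : ∀ A : SL, mk A ∈ Subgroup.normalizer ((E h : Subgroup P3) : Set P3) → mk A ∈ G := fun A hA =>
      ⟨A, hM ⟨(hnorm A).2 hA, hθS A⟩, rfl⟩
    have hEG : E h ≤ G := fun e he => by
      obtain ⟨A, rfl⟩ := mk_surj e
      exact hKmem A (Subgroup.le_normalizer he)
    by_cases hGtop : G = ⊤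
    · right
      refine le_antisymm hMS fun m hm => ?_
      obtain ⟨A, rfl⟩ := hθs m hm
      have hA : mk A ∈ G := by rw [hGtop]; exact Subgroup.mem_top _
      obtain ⟨B, hB, hBe⟩ := hA
      have hd : B⁻¹ * A ∈ K := by
        refine hM ⟨(hnorm _).2 ?_, hθS _⟩
        rw [map_mul, map_inv, hBe, inv_mul_cancel]
        exact one_mem _
      have := K.mul_mem hB hd
      rwa [mul_inv_cancel_left] at this
    · left
      have hf : pf h ∈ G := hKmem (sF h) (Q_norm h (Subgroup.subset_closure (Or.inl rfl)))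
      have hg : pg h ∈ G := hKmem (sG h) (Q_norm h (Subgroup.subset_closure (Or.inr rfl)))
      have hinv := normalises (p := p) hF hp5 hEG hf hg hGtop
      refine le_antisymm (fun m hm => ⟨?_, hMS hm⟩) hM
      obtain ⟨A, rfl⟩ := hθs m (hMS hm)
      refine (hnorm A).2 ?_
      have hAG : mk A ∈ G := ⟨A, hm, rfl⟩
      rw [Subgroup.mem_normalizer_iff]
      refine fun e => ⟨hinv _ hAG e, fun he => ?_⟩
      have := hinv _ (inv_mem hAG) _ he
      rwa [inv_inv, show (mk A : P3)⁻¹ * (mk A * e * (mk A)⁻¹) * mk A = e by group] at this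

end CfsgLib.MaxSub.SLThree.Hess
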